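import Mathlib

/-!
Finite fields of characteristic two for the study of Suzuki 2-groups: the field of a regular abelian
automorphism group, expansion of additive maps, equivariant alternating maps.
-/

set_option autoImplicit false

namespace CfsgLib.SuzukiTwo

universe u v

/-- an abelian group regular on the nonzero vectors is the multiplicative group of a field -/
theorem exists_lineField {E : Type u} [AddCommGroup E] [Finite E] [Nontrivial E] {K : Type v}
    [CommGroup K] [DistribMulAction K E] (h2 : ∀ a : E, a + a = 0)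
    (hreg : ∀ a b : E, a ≠ 0 → b ≠ 0 → ∃! k : K, k • a = b) :
    ∃ (L : Type u) (_ : Field L) (_ : Finite L) (e : L ≃+ E) (χ : K → L),
      (∀ k l, k • e l = e (χ k * l)) ∧ (∀ l : L, l ≠ 0 → ∃ k, χ k = l) ∧ ∀ l : L, l + l = 0 := by
  classical
  obtain ⟨v0, hv0⟩ := exists_ne (0 : E)
  let L : Subring (AddMonoid.End E) :=
    { carrier := {φ | ∀ (k : K) (a : E), φ (k • a) = k • φ a}
      mul_mem' := fun {a b} ha hb k x => by
        show a (b (k • x)) = k • a (b x)
        rw [hb k, ha k]
      one_mem' := fun k x => rfl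
      add_mem' := fun {a b} ha hb k x => by
        show a (k • x) + b (k • x) = k • (a x + b x)
        rw [ha k, hb k, smul_add]
      zero_mem' := fun k x => (smul_zero k).symm
      neg_mem' := fun {a} ha k x => by
        show -(a (k • x)) = k • -(a x)
        rw [ha k, smul_neg] }
  let χ : K → L := fun k => ⟨DistribMulAction.toAddMonoidEnd K E k, fun k' x => by
    show k • k' • x = k' • k • x
    rw [smul_smul, mul_comm, mul_smul]⟩
  have hχ : ∀ e : E, e ≠ 0 → ∃ k : K, k • v0 = e := fun e he => (hreg v0 e hv0 he).exists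
  have hext : ∀ φ ψ : L, (φ : AddMonoid.End E) v0 = (ψ : AddMonoid.End E) v0 → φ = ψ := by
    intro φ ψ h
    refine Subtype.ext (AddMonoidHom.ext fun e => ?_)
    by_cases he : e = 0
    · subst he
      exact (map_zero (φ : AddMonoid.End E)).trans (map_zero (ψ : AddMonoid.End E)).symm
    · obtain ⟨k, rfl⟩ := hχ e he
      exact (φ.2 k v0).trans ((congrArg (k • ·) h).trans (ψ.2 k v0).symm)
  have hcomm : ∀ φ ψ : L, φ * ψ = ψ * φ := by
    intro φ ψ
    apply hext
    show (φ : AddMonoid.End E) ((ψ : AddMonoid.End E) v0) = (ψ : AddMonoid.End E) ((φ : AddMonoid.End E) v0)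
    by_cases hψ : (ψ : AddMonoid.End E) v0 = 0
    · have : ψ = 0 := hext ψ 0 hψ
      subst this
      exact map_zero (φ : AddMonoid.End E)
    · obtain ⟨k, hk⟩ := hχ _ hψ
      have h1 : ψ = χ k := hext _ _ hk.symm
      subst h1
      exact φ.2 k v0
  have hinv : ∀ {φ : L}, φ ≠ 0 → ∃ ψ, φ * ψ = 1 := by
    intro φ hφ
    obtain ⟨k, hk⟩ := hχ _ (fun e0 => hφ (hext φ 0 e0))
    refine ⟨χ k⁻¹, ?_⟩
    rw [hext φ (χ k) hk.symm]
    exact hext _ _ (smul_inv_smul k v0)
  letI : Field L := IsField.toField ⟨⟨0, 1, fun e => hv0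
    (congrArg (fun φ : L => (φ : AddMonoid.End E) v0) e).symm⟩, hcomm, hinv⟩
  haveI : Finite (AddMonoid.End E) :=
    Finite.of_injective (fun φ : AddMonoid.End E => (φ : E → E)) DFunLike.coe_injective
  let ev : L →+ E :=
    { toFun := fun φ => (φ : AddMonoid.End E) v0
      map_zero' := rfl
      map_add' := fun _ _ => rfl }
  have hev : Function.Bijective ev := by
    refine ⟨fun φ ψ h => hext φ ψ h, fun e => ?_⟩
    by_cases he : e = 0
    · exact ⟨0, he.symm⟩
    · obtain ⟨k, rfl⟩ := hχ e he
      exact ⟨χ k, rfl⟩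
  refine ⟨L, inferInstance, inferInstance, AddEquiv.ofBijective ev hev, χ, fun k l => rfl,
    fun l hl => ?_, fun l => Subtype.ext (AddMonoidHom.ext fun e => h2 _)⟩
  obtain ⟨k, hk⟩ := hχ _ (fun e0 => hl (hext l 0 e0))
  exact ⟨k, (hext _ _ hk.symm).symm⟩

variable {L : Type u} [Field L]

omit [Field L] in
theorem sq_surjective [Field L] [Finite L] (h2 : ∀ l : L, l + l = 0) (x : L) : ∃ y : L, y * y = x := by
  have hinj : Function.Injective (fun y : L => y * y) := by
    intro a b hab
    have : (a + b) * (a + b) = 0 := by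
      calc (a + b) * (a + b) = (a * a + b * b) + (a * b + a * b) := by ring
        _ = 0 := by rw [h2, show a * a = b * b from hab, h2, add_zero]
    have h := mul_self_eq_zero.1 this
    calc a = a + (b + b) := by rw [h2, add_zero]
      _ = (a + b) + b := by ring
      _ = b := by rw [h, zero_add]
  exact Finite.surjective_of_injective hinj x

variable [Finite L]

/-- an alternating biadditive map with `c(ku, kv) = k c(u,v)` vanishes -/
theorem equivariant_alternating_eq_zero (h2 : ∀ l : L, l + l = 0) (c : L → L → L)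
    (haddl : ∀ u u' v, c (u + u') v = c u v + c u' v) (haddr : ∀ u v v', c u (v + v') = c u v + c u v')
    (halt : ∀ u, c u u = 0) (hequiv : ∀ l u v, l ≠ 0 → c (l * u) (l * v) = l * c u v) :
    ∀ u v, c u v = 0 := by
  have hsymm : ∀ u v, c u v = c v u := by
    intro u v
    have h := halt (u + v)
    rw [haddl, haddr, haddr, halt, halt, zero_add, add_zero] at h
    calc c u v = c u v + (c v u + c v u) := by rw [h2, add_zero]
      _ = c v u := by rw [← add_assoc, h, zero_add]
  have hzl : ∀ v, c 0 v = 0 := fun v => by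
    have := haddl 0 0 v
    rw [add_zero, h2] at this
    exact this
  have hrec : ∀ u : L, u ≠ 0 → c 1 u = u * c 1 u⁻¹ := by
    intro u hu
    rw [hsymm 1 u]
    calc c u 1 = c (u * 1) (u * u⁻¹) := by rw [mul_one, mul_inv_cancel₀ hu]
      _ = _ := hequiv u 1 u⁻¹ hu
  have key : ∀ u : L, u ≠ 0 → u ≠ 1 → c 1 (u * u) = 0 := by
    intro u hu hu1
    have hu' : 1 + u ≠ 0 := fun h => hu1 (by
      calc u = u + (1 + 1) := by rw [h2, add_zero]
        _ = (1 + u) + 1 := by ring
        _ = 1 := by rw [h, zero_add])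
    have e0 : u + u * u = u * (1 + u) := by ring
    have hw : u + u * u ≠ 0 := by rw [e0]; exact mul_ne_zero hu hu'
    have e1 : u⁻¹ + (1 + u)⁻¹ = (u + u * u)⁻¹ := by
      rw [e0, inv_add_inv hu hu', show u + (1 + u) = 1 + (u + u) by ring, h2, add_zero, one_div]
    have e2 : c 1 u⁻¹ = u⁻¹ * c 1 u := by
      rw [hrec u hu, ← mul_assoc, inv_mul_cancel₀ hu, one_mul]
    have e3 : c 1 (1 + u)⁻¹ = (1 + u)⁻¹ * c 1 u := by
      have := hrec (1 + u) hu'
      rw [haddr, halt, zero_add] at this
      rw [this, ← mul_assoc, inv_mul_cancel₀ hu', one_mul]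
    have e4 : c 1 (u + u * u) = c 1 u := by
      rw [hrec _ hw, ← e1, haddr, e2, e3, ← add_mul, e1, ← mul_assoc, mul_inv_cancel₀ hw, one_mul]
    rw [haddr] at e4
    calc c 1 (u * u) = (c 1 u + c 1 u) + c 1 (u * u) := by rw [h2, zero_add]
      _ = c 1 u + (c 1 u + c 1 (u * u)) := by ring
      _ = 0 := by rw [e4, h2]
  have hone : ∀ v, c 1 v = 0 := by
    intro v
    obtain ⟨u, rfl⟩ := sq_surjective h2 v
    by_cases hu : u = 0
    · rw [hu, mul_zero]
      have := haddr 1 0 0
      rw [add_zero, h2] at this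
      exact this
    by_cases hu1 : u = 1
    · rw [hu1, mul_one, halt]
    exact key u hu hu1
  intro u v
  by_cases hu : u = 0
  · rw [hu, hzl]
  · calc c u v = c (u * 1) (u * (u⁻¹ * v)) := by rw [mul_one, ← mul_assoc, mul_inv_cancel₀ hu, one_mul]
      _ = u * c 1 (u⁻¹ * v) := hequiv u _ _ hu
      _ = 0 := by rw [hone, mul_zero]

variable [Fintype (L ≃+* L)]

theorem eq_zero_of_sum_eq_zero (α : (L ≃+* L) → L) (h : ∀ x : L, ∑ σ, α σ * σ x = 0) : α = 0 := by
  have hinj : Function.Injective (fun σ : L ≃+* L => ((σ : L →+* L) : L →* L)) := fun a b hab =>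
    RingEquiv.ext fun x => DFunLike.congr_fun hab x
  have hli := (linearIndependent_monoidHom L L).comp _ hinj
  funext σ
  exact Fintype.linearIndependent_iff.1 hli α (by funext x; simpa using h x) σ

theorem exists_expansion (h2 : ∀ l : L, l + l = 0) (φ : L →+ L) :
    ∃ α : (L ≃+* L) → L, ∀ x, φ x = ∑ σ, α σ * σ x := by
  classical
  haveI : CharP L 2 := CharTwo.of_one_ne_zero_of_two_eq_zero one_ne_zero (by
    rw [← one_add_one_eq_two, h2])
  haveI : Fact (Nat.Prime 2) := ⟨Nat.prime_two⟩
  letI : Algebra (ZMod 2) L := ZMod.algebra L 2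
  haveI : FiniteDimensional (ZMod 2) L := Module.Finite.of_finite
  let F : ((L ≃+* L) → L) →+ (L →+ L) :=
    { toFun := fun α =>
        { toFun := fun x => ∑ σ, α σ * σ x
          map_zero' := by simp
          map_add' := fun x y => by simp [mul_add, Finset.sum_add_distrib] }
      map_zero' := by ext; simp
      map_add' := fun α β => by ext; simp [add_mul, Finset.sum_add_distrib] }
  have hF : Function.Injective F := by
    rw [injective_iff_map_eq_zero]
    exact fun α hα => eq_zero_of_sum_eq_zero α fun x => DFunLike.congr_fun hα x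
  haveI : Finite (L →+ L) := Finite.of_injective (fun f : L →+ L => (f : L → L)) DFunLike.coe_injective
  have hgal : Nat.card (L ≃+* L) = Module.finrank (ZMod 2) L := by
    rw [← IsGalois.card_aut_eq_finrank (ZMod 2) L]
    refine Nat.card_congr ⟨fun σ => AlgEquiv.ofRingEquiv (f := σ) (fun z => ?_), fun σ => σ.toRingEquiv,
      fun σ => rfl, fun σ => rfl⟩
    exact RingHom.congr_fun (RingHom.ext_zmod ((σ : L →+* L).comp (algebraMap (ZMod 2) L))
      (algebraMap (ZMod 2) L)) z
  have hcard : Nat.card ((L ≃+* L) → L) = Nat.card (L →+ L) := by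
    rw [Nat.card_fun, hgal, Nat.card_congr (AddMonoidHom.toZModLinearMapEquiv 2 (M := L) (M₁ := L)).toEquiv,
      Module.natCard_eq_pow_finrank (K := ZMod 2) (V := L →ₗ[ZMod 2] L), Module.finrank_linearMap,
      Module.natCard_eq_pow_finrank (K := ZMod 2) (V := L), ← pow_mul]
  obtain ⟨α, hα⟩ := ((Nat.bijective_iff_injective_and_card F).2 ⟨hF, hcard⟩).2 φ
  exact ⟨α, fun x => (DFunLike.congr_fun hα x).symm⟩

/-- two Galois twists of `x / β x` coincide only trivially -/
theorem eq_of_quotient_twist (h2 : ∀ l : L, l + l = 0) {β β' σ : L ≃+* L} (hβ : β ≠ 1) (hβ' : β' ≠ 1)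
    (h : ∀ x : L, x * σ (β x) = β' x * σ x) : β = β' := by
  classical
  have hlin : ∀ b : L, σ (β b) + b = σ b + β' b := by
    intro b
    have e := h (1 + b)
    simp only [map_add, map_one] at e
    have e' : (1 + b * σ (β b)) + (σ (β b) + b) = (1 + β' b * σ b) + (σ b + β' b) := by
      calc _ = (1 + b) * (1 + σ (β b)) := by ring
        _ = _ := e
        _ = _ := by ring
    rw [h b] at e'
    exact add_left_cancel e'
  by_cases hσ : σ = 1
  · subst hσ
    refine RingEquiv.ext fun b => ?_
    have e : β b + b = b + β' b := hlin b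
    rw [add_comm b (β' b)] at e
    exact add_right_cancel e
  exfalso
  by_cases hσβ : σ * β = 1
  · have hz : ∀ b, σ (β b) = b := fun b => RingEquiv.congr_fun hσβ b
    apply hσ
    refine RingEquiv.ext fun x => ?_
    have e1 : σ x + β' x = 0 := by rw [← hlin x, hz, h2]
    have e2 : β' x = σ x := by
      calc β' x = (σ x + σ x) + β' x := by rw [h2, zero_add]
        _ = σ x + (σ x + β' x) := by rw [add_assoc]
        _ = σ x := by rw [e1, add_zero]
    have e3 : x * x = σ x * σ x := by
      have := h x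
      rwa [hz, e2] at this
    show σ x = x
    have e4 : (x + σ x) * (x + σ x) = 0 := by
      calc (x + σ x) * (x + σ x) = (x * x + σ x * σ x) + (x * σ x + x * σ x) := by ring
        _ = 0 := by rw [h2, ← e3, h2, add_zero]
    have e5 := mul_self_eq_zero.1 e4
    calc σ x = (x + x) + σ x := by rw [h2, zero_add]
      _ = x + (x + σ x) := by rw [add_assoc]
      _ = x := by rw [e5, add_zero]
  let ind : (L ≃+* L) → (L ≃+* L) → L := fun g τ => if τ = g then 1 else 0
  have hind : ∀ g x, ∑ τ, ind g τ * τ x = g x := fun g x => by simp [ind]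
  have hz := eq_zero_of_sum_eq_zero (ind (σ * β) + ind 1 + (ind σ + ind β')) (fun x => by
    simp only [Pi.add_apply, add_mul, Finset.sum_add_distrib, hind]
    show σ (β x) + x + (σ x + β' x) = 0
    rw [hlin, h2])
  have := congrFun hz 1
  simp [ind, Ne.symm hσβ, Ne.symm hσ, Ne.symm hβ'] at this

/-- `l = β l * g l` with `g` additive: `β` fixes only `0`, `1` -/
theorem fixed_eq_of_additive_quotient (h2 : ∀ l : L, l + l = 0) (β : L ≃+* L) (g : L → L)
    (hadd : ∀ a b, g (a + b) = g a + g b) (h : ∀ l, l = β l * g l) {r : L} (hr : β r = r) :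
    r = 0 ∨ r = 1 := by
  have hg1 : g 1 = 1 := by simpa using (h 1).symm
  have e : r + 1 = (r + 1) * (g r + 1) := by
    conv_lhs => rw [h (r + 1)]
    rw [hadd, hg1, map_add, map_one, hr]
  by_cases hr1 : r + 1 = 0
  · right
    calc r = r + (1 + 1) := by rw [h2, add_zero]
      _ = (r + 1) + 1 := by rw [add_assoc]
      _ = 1 := by rw [hr1, zero_add]
  · left
    have hg : g r + 1 = 1 := mul_left_cancel₀ hr1 (e.symm.trans (mul_one _).symm)
    have := h r
    rw [show g r = 0 from add_right_cancel (hg.trans (zero_add 1).symm), mul_zero] at this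
    exact this

open Classical in
/-- a nonzero group of twisted polynomials invariant under `α σ ↦ l / σ l * α σ`, semiregularly,
contains all multiples of one monomial -/
theorem exists_monomial (h2 : ∀ l : L, l + l = 0) (hL : 2 < Nat.card L) (S : AddSubgroup ((L ≃+* L) → L))
    (hS : S ≠ ⊥) (hinv : ∀ l : L, l ≠ 0 → ∀ α ∈ S, (fun σ => l / σ l * α σ) ∈ S)
    (hfree : ∀ l : L, l ≠ 0 → ∀ α ∈ S, α ≠ 0 → (fun σ => l / σ l * α σ) = α → l = 1) :
    ∃ σ : L ≃+* L, σ ≠ 1 ∧ (∀ l : L, l ≠ 0 → l / σ l = 1 → l = 1) ∧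
      ∀ l : L, (fun τ => if τ = σ then l else 0) ∈ S := by
  classical
  let supp : ((L ≃+* L) → L) → Finset (L ≃+* L) := fun α => Finset.univ.filter fun σ => α σ ≠ 0
  obtain ⟨α, ⟨hαS, hα0⟩, hmin⟩ : ∃ α, (α ∈ S ∧ α ≠ 0) ∧ ∀ β ∈ S, β ≠ 0 → (supp α).card ≤ (supp β).card := by
    obtain ⟨β, hβS, hβ0⟩ : ∃ β ∈ S, β ≠ 0 := by
      by_contra hc
      push Not at hc
      exact hS ((AddSubgroup.eq_bot_iff_forall S).2 hc)
    haveI : Fintype L := Fintype.ofFinite L
    obtain ⟨α, hα, hmin⟩ := Finset.exists_min_image (Finset.univ.filter fun γ => γ ∈ S ∧ γ ≠ 0)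
      (fun γ => (supp γ).card) ⟨β, by simp [hβS, hβ0]⟩
    simp only [Finset.mem_filter, Finset.mem_univ, true_and] at hα hmin
    exact ⟨α, hα, fun γ h1 h2' => hmin γ ⟨h1, h2'⟩⟩
  have hkill : ∀ β ∈ S, (∀ τ, α τ = 0 → β τ = 0) → (∃ τ, α τ ≠ 0 ∧ β τ = 0) → β = 0 := by
    rintro β hβS hsub ⟨τ, hτ, hβτ⟩
    by_contra hβ0
    have hss : supp β ⊂ supp α := by
      rw [Finset.ssubset_iff_of_subset (fun σ hσ => ?_)]
      · exact ⟨τ, by simp [supp, hτ], by simp [supp, hβτ]⟩
      · simp only [supp, Finset.mem_filter, Finset.mem_univ, true_and] at hσ ⊢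
        exact fun h => hσ (hsub σ h)
    exact absurd (Finset.card_lt_card hss) (not_lt.2 (hmin β hβS hβ0))
  -- every term has an injective character
  have hinj : ∀ σ, α σ ≠ 0 → ∀ l : L, l ≠ 0 → l / σ l = 1 → l = 1 := by
    intro σ hσ l hl hl1
    refine hfree l hl α hαS hα0 ?_
    have hz := hkill ((fun τ => l / τ l * α τ) + α) (S.add_mem (hinv l hl α hαS) hαS)
      (fun τ hτ => by simp [hτ]) ⟨σ, hσ, by simp [hl1, h2]⟩
    funext τ
    have := congrFun hz τ
    simp only [Pi.add_apply, Pi.zero_apply] at this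
    calc l / τ l * α τ = l / τ l * α τ + (α τ + α τ) := by rw [h2, add_zero]
      _ = α τ := by rw [← add_assoc, this, zero_add]
  have hne1 : ∀ σ, α σ ≠ 0 → σ ≠ 1 := by
    rintro σ hσ rfl
    obtain ⟨l, hl, hl1⟩ : ∃ l : L, l ≠ 0 ∧ l ≠ 1 := by
      by_contra hc
      push Not at hc
      have : Nat.card L ≤ 2 := by
        refine (Nat.card_le_card_of_injective (fun l : L => decide (l = 0)) ?_).trans (by simp)
        intro a b hab
        by_cases ha : a = 0
        · subst ha
          simp only [decide_true] at hab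
          exact (of_decide_eq_true hab.symm).symm
        · have hb : b ≠ 0 := fun hb => ha (by simpa [hb] using hab)
          rw [hc a ha, hc b hb]
      omega
    exact hl1 (hinj 1 hσ l hl (div_self hl))
  have hsurj : ∀ σ, α σ ≠ 0 → ∀ x : L, x ≠ 0 → ∃ l : L, l ≠ 0 ∧ l / σ l = x := by
    intro σ hσ x hx
    let f : Lˣ → Lˣ := fun l => Units.mk0 ((l : L) / σ l)
      (div_ne_zero l.ne_zero (fun h => l.ne_zero (σ.injective (h.trans (map_zero σ).symm))))
    have hf : Function.Injective f := by
      intro a b hab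
      have e : (a : L) / σ a = (b : L) / σ b := congrArg Units.val hab
      have h1 : ((a : L) / b) / σ ((a : L) / b) = 1 := by
        have hb : σ (b : L) ≠ 0 := fun h => b.ne_zero (σ.injective (h.trans (map_zero σ).symm))
        rw [map_div₀, div_div_div_comm, e, div_self (div_ne_zero b.ne_zero hb)]
      have := hinj σ hσ _ (div_ne_zero a.ne_zero b.ne_zero) h1
      exact Units.ext (eq_of_div_eq_one this)
    obtain ⟨l, hl⟩ := Finite.surjective_of_injective hf (Units.mk0 x hx)
    exact ⟨l, l.ne_zero, congrArg Units.val hl⟩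
  obtain ⟨σ, hσ⟩ : ∃ σ, α σ ≠ 0 := by
    by_contra hc
    push Not at hc
    exact hα0 (funext hc)
  -- at most one term
  have hone : ∀ τ, α τ ≠ 0 → τ = σ := by
    intro τ hτ
    have hwd : ∀ a b : L, a ≠ 0 → b ≠ 0 → a / σ a = b / σ b → a = b := by
      intro a b ha hb e
      have hσb : σ b ≠ 0 := fun h => hb (σ.injective (h.trans (map_zero σ).symm))
      exact eq_of_div_eq_one (hinj σ hσ _ (div_ne_zero ha hb) (by
        rw [map_div₀, div_div_div_comm, e, div_self (div_ne_zero hb hσb)]))
    choose! s hs0 hs using hsurj σ hσ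
    let g : L → L := fun x => if x = 0 then 0 else s x / τ (s x)
    have hg : ∀ l : L, l ≠ 0 → g (l / σ l) = l / τ l := by
      intro l hl
      have hx : l / σ l ≠ 0 := div_ne_zero hl (fun h => hl (σ.injective (h.trans (map_zero σ).symm)))
      simp only [g, if_neg hx]
      rw [hwd _ l (hs0 _ hx) hl (hs _ hx)]
    have hg0 : g 0 = 0 := if_pos rfl
    have hgmul : ∀ x y, g (x * y) = g x * g y := by
      intro x y
      by_cases hx : x = 0
      · rw [hx, zero_mul, hg0, zero_mul]
      by_cases hy : y = 0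
      · rw [hy, mul_zero, hg0, mul_zero]
      have := hg (s x * s y) (mul_ne_zero (hs0 x hx) (hs0 y hy))
      rw [map_mul, mul_div_mul_comm, hs x hx, hs y hy, map_mul, mul_div_mul_comm] at this
      rw [this, ← hg _ (hs0 x hx), ← hg _ (hs0 y hy), hs x hx, hs y hy]
    have hgadd : ∀ x y, g (x + y) = g x + g y := by
      intro x y
      by_cases hx : x = 0
      · rw [hx, zero_add, hg0, zero_add]
      by_cases hy : y = 0
      · rw [hy, add_zero, hg0, add_zero]
      by_cases hxy : x + y = 0
      · have : y = x := by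
          calc y = (x + x) + y := by rw [h2, zero_add]
            _ = x := by rw [add_assoc, hxy, add_zero]
        rw [this, h2, hg0, h2]
      have hmem : ((fun ρ => s x / ρ (s x) * α ρ) + (fun ρ => s y / ρ (s y) * α ρ) +
          fun ρ => s (x + y) / ρ (s (x + y)) * α ρ) ∈ S :=
        S.add_mem (S.add_mem (hinv _ (hs0 x hx) α hαS) (hinv _ (hs0 y hy) α hαS))
          (hinv _ (hs0 _ hxy) α hαS)
      have hz := hkill _ hmem (fun ρ hρ => by simp [hρ]) ⟨σ, hσ, by
        simp only [Pi.add_apply]
        rw [hs x hx, hs y hy, hs _ hxy, ← add_mul, ← add_mul, h2, zero_mul]⟩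
      have h3 := congrFun hz τ
      simp only [Pi.add_apply, Pi.zero_apply, ← add_mul, mul_eq_zero, hτ, or_false] at h3
      have hgx : g x = s x / τ (s x) := if_neg hx
      have hgy : g y = s y / τ (s y) := if_neg hy
      have hgxy : g (x + y) = s (x + y) / τ (s (x + y)) := if_neg hxy
      rw [hgx, hgy, hgxy]
      generalize s x / τ (s x) = A at h3 ⊢
      generalize s y / τ (s y) = B at h3 ⊢
      generalize s (x + y) / τ (s (x + y)) = C at h3 ⊢
      calc C = (A + A) + (B + B) + C := by rw [h2, h2, zero_add, zero_add]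
        _ = (A + B + C) + (A + B) := by ring
        _ = A + B := by rw [h3, zero_add]
    have hg1 : g 1 = 1 := by
      have := hg 1 one_ne_zero
      rwa [map_one, map_one, div_one] at this
    let gh : L →+* L := { toFun := g, map_one' := hg1, map_mul' := hgmul, map_zero' := hg0, map_add' := hgadd }
    let ge : L ≃+* L := RingEquiv.ofBijective gh
      ⟨gh.injective, Finite.surjective_of_injective gh.injective⟩
    refine (eq_of_quotient_twist h2 (σ := ge) (hne1 σ hσ) (hne1 τ hτ) fun x => ?_).symm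
    by_cases hx : x = 0
    · simp [hx]
    have hσx : σ x ≠ 0 := fun h => hx (σ.injective (h.trans (map_zero σ).symm))
    have hτx : τ x ≠ 0 := fun h => hx (τ.injective (h.trans (map_zero τ).symm))
    have e : ge (x / σ x) = x / τ x := hg x hx
    rw [map_div₀] at e
    have hgσ : ge (σ x) ≠ 0 := fun h => hσx (ge.injective (h.trans (map_zero ge).symm))
    rw [div_eq_div_iff hgσ hτx] at e
    rw [← e]; ring
  refine ⟨σ, hne1 σ hσ, hinj σ hσ, fun l => ?_⟩
  by_cases hl : l = 0
  · rw [hl]
    simp only [ite_self]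
    exact S.zero_mem
  obtain ⟨m, hm0, hm⟩ := hsurj σ hσ (l / α σ) (div_ne_zero hl hσ)
  convert hinv m hm0 α hαS using 1
  funext τ
  by_cases hτ : τ = σ
  · subst hτ
    rw [if_pos rfl, hm, div_mul_cancel₀ _ hσ]
  · rw [if_neg hτ, show α τ = 0 from by_contra fun h => hτ (hone τ h), mul_zero]

end CfsgLib.SuzukiTwo
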