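import Cfsg.Agent.Lib.SuzukiTwo.PartTwo

/-!
The order of a Suzuki 2-group: Chevalley–Warning bound on an anisotropic quadratic map.
-/

set_option autoImplicit false

namespace CfsgLib.SuzukiTwo

open scoped commutatorElement
open MvPolynomial (C X eval totalDegree)

universe u v

/-- a quadratic map over the field with two elements without nontrivial zeros -/
theorem finrank_le_two_mul {V : Type u} {N : Type v} [AddCommGroup V] [Module (ZMod 2) V] [Finite V]
    [AddCommGroup N] [Module (ZMod 2) N] [Finite N] (Q : QuadraticMap (ZMod 2) V N)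
    (h : ∀ v, Q v = 0 → v = 0) : Module.finrank (ZMod 2) V ≤ 2 * Module.finrank (ZMod 2) N := by
  classical
  haveI : Fact (Nat.Prime 2) := ⟨Nat.prime_two⟩
  haveI : Module.Finite (ZMod 2) V := Module.Finite.of_finite
  haveI : Module.Finite (ZMod 2) N := Module.Finite.of_finite
  let bV := Module.finBasis (ZMod 2) V
  let bN := Module.finBasis (ZMod 2) N
  set Bm := Q.toBilin bV with hBm
  by_contra hlt
  push Not at hlt
  let f : Fin (Module.finrank (ZMod 2) N) → MvPolynomial (Fin (Module.finrank (ZMod 2) V)) (ZMod 2) :=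
    fun j => ∑ i, ∑ k, MvPolynomial.C (bN.repr (Bm (bV i) (bV k)) j) * (MvPolynomial.X i * MvPolynomial.X k)
  have hdeg : ∀ j, (f j).totalDegree ≤ 2 := by
    intro j
    refine (MvPolynomial.totalDegree_finset_sum _ _).trans (Finset.sup_le fun i _ => ?_)
    refine (MvPolynomial.totalDegree_finset_sum _ _).trans (Finset.sup_le fun k _ => ?_)
    refine (MvPolynomial.totalDegree_mul _ _).trans ?_
    rw [MvPolynomial.totalDegree_C, zero_add]
    refine (MvPolynomial.totalDegree_mul _ _).trans ?_
    rw [MvPolynomial.totalDegree_X, MvPolynomial.totalDegree_X]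
  have heval : ∀ x j, MvPolynomial.eval x (f j) = bN.repr (Q (bV.equivFun.symm x)) j := by
    intro x j
    have hQ : Q (bV.equivFun.symm x) = Bm (bV.equivFun.symm x) (bV.equivFun.symm x) := by
      conv_lhs => rw [← QuadraticMap.toQuadraticMap_toBilin Q bV]
      rfl
    rw [hQ]
    simp only [Module.Basis.equivFun_symm_apply, map_sum, map_smul, LinearMap.coe_sum,
      Finset.sum_apply, LinearMap.smul_apply, Finsupp.coe_finset_sum, Finsupp.coe_smul, Pi.smul_apply,
      smul_eq_mul, f, map_mul, MvPolynomial.eval_C, MvPolynomial.eval_X, Finset.mul_sum]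
    rw [Finset.sum_comm]
    refine Finset.sum_congr rfl fun i _ => Finset.sum_congr rfl fun k _ => ?_
    ring
  have hcw := char_dvd_card_solutions_of_fintype_sum_lt (K := ZMod 2) 2 (f := f) (by
    calc ∑ j, (f j).totalDegree ≤ ∑ _j : Fin (Module.finrank (ZMod 2) N), 2 := Finset.sum_le_sum fun j _ => hdeg j
      _ < _ := by simpa [mul_comm] using hlt)
  have huniq : Nat.card {x : Fin (Module.finrank (ZMod 2) V) → ZMod 2 // ∀ j, MvPolynomial.eval x (f j) = 0} = 1 := by
    rw [Nat.card_eq_fintype_card, Fintype.card_eq_one_iff]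
    have hz : ∀ x, (∀ j, MvPolynomial.eval x (f j) = 0) → x = 0 := fun x hx => by
      have h0 : Q (bV.equivFun.symm x) = 0 := bN.repr.injective (by
        ext j
        rw [← heval, hx, map_zero]
        rfl)
      exact bV.equivFun.symm.injective ((h _ h0).trans (map_zero _).symm)
    refine ⟨⟨0, fun j => by rw [heval, map_zero, QuadraticMap.map_zero, map_zero]; rfl⟩, fun x => ?_⟩
    exact Subtype.ext (hz x.1 x.2)
  rw [Fintype.card_eq_nat_card, huniq] at hcw
  exact absurd (Nat.le_of_dvd one_pos hcw) (by norm_num)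

variable {P : Type u} [Group P] [Finite P] {K : Type v} [CommGroup K] [MulDistribMulAction K P]

namespace Setting

variable (h : Setting P K)
include h

theorem invols_eq_center (hna : ∃ x y : P, x * y ≠ y * x) : invols P = Subgroup.center P :=
  le_antisymm h.invols_le_center fun z hz => h.mem_invols.2 (h.center_sq hna z hz)

/-- the automorphism group has `q - 1` elements, and `q - 1` divides the number of nonidentity cosets -/
theorem card_invols : Nat.card (invols P) = Nat.card K + 1 := by
  classical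
  haveI := h.finite_auts
  haveI : Fintype P := Fintype.ofFinite P
  obtain ⟨x, y, -, hx1, hxx, -, -⟩ := h.two
  rw [← Finite.card_option]
  refine Nat.card_congr (Equiv.ofBijective (fun o : Option K => (o.elim ⟨1, one_mem _⟩
    (fun k => ⟨k • x, h.smul_mem_invols k (h.mem_invols.2 hxx)⟩) : invols P)) ⟨?_, ?_⟩).symm
  · have hne : ∀ k : K, k • x ≠ 1 := fun k e => hx1 (MulAction.injective k (e.trans (smul_one k).symm))
    intro a b hab
    have hab' := congrArg Subtype.val hab
    rcases a with _ | a <;> rcases b with _ | b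
    · rfl
    · exact absurd hab'.symm (hne b)
    · exact absurd hab' (hne a)
    · have e : a • x = b • x := hab'
      exact congrArg some (inv_mul_eq_one.1 (h.eq_one_of_fixed hx1 (k := b⁻¹ * a) (by
        rw [mul_smul, e, inv_smul_smul]))).symm
  · intro w
    by_cases hw : (w : P) = 1
    · exact ⟨none, Subtype.ext hw.symm⟩
    obtain ⟨k, hk, -⟩ := h.reg x w hx1 hxx hw (h.mem_invols.1 w.2)
    exact ⟨some k, Subtype.ext hk⟩

/-- `|P| = q ^ 2` or `q ^ 3` -/
theorem card_eq (hna : ∃ x y : P, x * y ≠ y * x) :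
    Nat.card P = Nat.card (invols P) ^ 2 ∨ Nat.card P = Nat.card (invols P) ^ 3 := by
  classical
  obtain ⟨hsq, hcm⟩ := h.sq_mem hna
  set W := invols P with hWdef
  haveI hWn : W.Normal := ⟨fun w hw g => by
    rw [Subgroup.mem_center_iff.1 (h.invols_le_center hw) g, mul_inv_cancel_right]; exact hw⟩
  letI : CommGroup (P ⧸ W) := { (inferInstance : Group (P ⧸ W)) with
    mul_comm := fun a b => QuotientGroup.induction_on a fun x => QuotientGroup.induction_on b fun y => by
      refine (commutatorElement_eq_one_iff_mul_comm).1 ?_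
      show ⁅QuotientGroup.mk' W x, QuotientGroup.mk' W y⁆ = 1
      rw [← map_commutatorElement]
      exact (QuotientGroup.eq_one_iff _).2 (hcm x y) }
  let V := Additive (P ⧸ W)
  have hsurjV : ∀ v : V, ∃ x : P, Additive.ofMul (QuotientGroup.mk x : P ⧸ W) = v :=
    fun v => QuotientGroup.mk_surjective (Additive.toMul v)
  have hV2 : ∀ v : V, 2 • v = 0 := fun v => by
    obtain ⟨x, rfl⟩ := hsurjV v
    show Additive.ofMul ((QuotientGroup.mk x : P ⧸ W) ^ 2) = 0
    rw [pow_two, ← QuotientGroup.mk_mul, (QuotientGroup.eq_one_iff _).2 (hsq x), ofMul_one]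
  letI : Module (ZMod 2) V := AddCommGroup.zmodModule hV2
  obtain ⟨L, hF, hfin, e, χ, he, hadd, hW, hact, hχ, h2, hL2⟩ := h.exists_coord
  letI : Module (ZMod 2) L := AddCommGroup.zmodModule (fun l => by rw [two_nsmul]; exact h2 l)
  have he0 : e 0 = 1 := by
    have := hadd 0 0
    rw [add_zero] at this
    exact left_eq_mul.1 this
  choose qP hqP using fun x : P => (hW _).1 (hsq x)
  have hqW : ∀ x w : P, w ∈ W → qP (x * w) = qP x := fun x w hw => he (by
    rw [hqP, hqP, (show Commute w x from (Subgroup.mem_center_iff.1 (h.invols_le_center hw) x).symm).mul_mul_mul_comm,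
      h.mem_invols.1 hw, mul_one])
  let q : V → L := fun v => Quotient.liftOn' (Additive.toMul v) qP fun x y hxy => by
    rw [QuotientGroup.leftRel_apply] at hxy
    rw [← hqW x _ hxy, mul_inv_cancel_left]
  choose cP hcP using fun x y : P => (hW _).1 (hcm x y)
  have hcl : ∀ x x' y, cP (x * x') y = cP x y + cP x' y := fun x x' y => he (by
    rw [hadd, hcP, hcP, hcP, CfsgLib.PGroup.commutatorElement_mul_left_of_central _ _ _ (h.invols_le_center (hcm x' y))])
  have hcr : ∀ x y y', cP x (y * y') = cP x y + cP x y' := fun x y y' => he (by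
    rw [hadd, hcP, hcP, hcP, CfsgLib.PGroup.commutatorElement_mul_right_of_central _ _ _ (h.invols_le_center (hcm x y'))])
  have hcW : ∀ w, w ∈ W → ∀ y, cP w y = 0 ∧ cP y w = 0 := fun w hw y => ⟨he (by
      rw [hcP, he0]; exact commutatorElement_eq_one_iff_mul_comm.2 (Subgroup.mem_center_iff.1 (h.invols_le_center hw) y).symm),
    he (by rw [hcP, he0]; exact commutatorElement_eq_one_iff_mul_comm.2 (Subgroup.mem_center_iff.1 (h.invols_le_center hw) y))⟩
  let c : V → V → L := fun a b => Quotient.liftOn₂' (Additive.toMul a) (Additive.toMul b) cP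
    fun x y x' y' hx hy => by
      rw [QuotientGroup.leftRel_apply] at hx hy
      rw [show x' = x * (x⁻¹ * x') by group, show y' = y * (y⁻¹ * y') by group, hcl, hcr,
        (hcW _ hx _).1, (hcW _ hy x).2, add_zero, add_zero]
  have hcadd : ∀ a a' b, c (a + a') b = c a b + c a' b := fun a a' b => by
    obtain ⟨x, rfl⟩ := hsurjV a
    obtain ⟨x', rfl⟩ := hsurjV a'
    obtain ⟨y, rfl⟩ := hsurjV b
    exact hcl x x' y
  have hcadd' : ∀ a b b', c a (b + b') = c a b + c a b' := fun a b b' => by
    obtain ⟨x, rfl⟩ := hsurjV a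
    obtain ⟨y, rfl⟩ := hsurjV b
    obtain ⟨y', rfl⟩ := hsurjV b'
    exact hcr x y y'
  have hqadd : ∀ a b, q (a + b) = q a + q b + c b a := fun a b => by
    obtain ⟨x, rfl⟩ := hsurjV a
    obtain ⟨y, rfl⟩ := hsurjV b
    exact he (by
      show e (qP (x * y)) = e (qP x + qP y + cP y x)
      rw [hadd, hadd, hqP, hqP, hqP, hcP, ← pow_two, CfsgLib.PGroup.mul_pow_of_central
        (h.invols_le_center (hcm y x)), Nat.choose_self, pow_one, pow_two, pow_two])
  have hq0 : q 0 = 0 := he (by
    show e (qP 1) = e 0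
    rw [hqP, he0, one_mul])
  let Bl : LinearMap.BilinMap (ZMod 2) V L :=
    AddMonoidHom.toZModLinearMap 2 (AddMonoidHom.mk' (fun a => AddMonoidHom.toZModLinearMap 2
      (AddMonoidHom.mk' (fun b => c b a) (fun b b' => hcadd b b' a)))
      (fun a a' => LinearMap.ext fun b => hcadd' b a a'))
  let Q : QuadraticMap (ZMod 2) V L :=
    { toFun := q
      toFun_smul := fun a x => by
        fin_cases a
        · show q ((0 : ZMod 2) • x) = ((0 : ZMod 2) * 0) • q x
          rw [zero_smul, zero_mul, zero_smul, hq0]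
        · show q ((1 : ZMod 2) • x) = ((1 : ZMod 2) * 1) • q x
          rw [one_smul, one_mul, one_smul]
      exists_companion' := ⟨Bl, fun x y => hqadd x y⟩ }
  have hanis : ∀ v, Q v = 0 → v = 0 := fun v hv => by
    obtain ⟨x, rfl⟩ := hsurjV v
    have hx : qP x = 0 := hv
    exact (by
      show Additive.ofMul (QuotientGroup.mk x : P ⧸ W) = 0
      rw [(QuotientGroup.eq_one_iff x).2 (h.mem_invols.2 (by rw [← hqP, hx, he0])), ofMul_one])
  have hbound := finrank_le_two_mul Q hanis
  haveI : Fact (Nat.Prime 2) := ⟨Nat.prime_two⟩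
  haveI : Module.Finite (ZMod 2) V := Module.Finite.of_finite
  haveI : Module.Finite (ZMod 2) L := Module.Finite.of_finite
  have hVc : Nat.card (P ⧸ W) = 2 ^ Module.finrank (ZMod 2) V := by
    rw [show Nat.card (P ⧸ W) = Nat.card V from Nat.card_congr Additive.ofMul,
      Module.natCard_eq_pow_finrank (K := ZMod 2) (V := V), Nat.card_zmod]
  have hWc : Nat.card W = 2 ^ Module.finrank (ZMod 2) L := by
    have hpow := Module.natCard_eq_pow_finrank (K := ZMod 2) (V := L)
    rw [Nat.card_zmod] at hpow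
    rw [← hpow]
    exact (Nat.card_eq_of_bijective (fun l : L => (⟨e l, (hW _).2 ⟨l, rfl⟩⟩ : W))
      ⟨fun a b hab => he (congrArg Subtype.val hab), fun w => (hW _).1 w.2 |>.elim fun l hl => ⟨l, Subtype.ext hl⟩⟩).symm
  set d := Module.finrank (ZMod 2) V with hd
  set n := Module.finrank (ZMod 2) L with hn
  -- `K` is semiregular on the nonidentity cosets
  haveI := h.finite_auts
  have hWinv : ∀ k : K, ∀ x ∈ W, k • x ∈ W := fun k x hx => h.smul_mem_invols k hx
  let T := {z : P ⧸ W // z ≠ 1}
  let act : K → P ⧸ W → P ⧸ W := fun k => Quotient.map' (fun x => k • x) fun x y hxy => by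
    rw [QuotientGroup.leftRel_apply] at hxy ⊢
    rw [← smul_inv', ← smul_mul']
    exact hWinv k _ hxy
  have hactne : ∀ k z, z ≠ 1 → act k z ≠ 1 := fun k z => QuotientGroup.induction_on z fun x hx e0 => hx (by
    refine (QuotientGroup.eq_one_iff x).2 ?_
    have := hWinv k⁻¹ _ ((QuotientGroup.eq_one_iff (k • x)).1 e0)
    rwa [inv_smul_smul] at this)
  letI : MulAction K T :=
    { smul := fun k z => ⟨act k z.1, hactne k z.1 z.2⟩
      one_smul := fun z => Subtype.ext (by
        show act 1 z.1 = z.1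
        obtain ⟨x, hx⟩ := QuotientGroup.mk_surjective z.1
        rw [← hx]
        exact congrArg QuotientGroup.mk (one_smul K x))
      mul_smul := fun a b z => Subtype.ext (by
        show act (a * b) z.1 = act a (act b z.1)
        obtain ⟨x, hx⟩ := QuotientGroup.mk_surjective z.1
        rw [← hx]
        exact congrArg QuotientGroup.mk (mul_smul a b x)) }
  have hstab : ∀ z : T, MulAction.stabilizer K z = ⊥ := fun z => (Subgroup.eq_bot_iff_forall _).2 fun k hk => by
    obtain ⟨x, hx⟩ := QuotientGroup.mk'_surjective W z.1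
    have hz : x ∉ W := fun hxW => z.2 (by rw [← hx]; exact (QuotientGroup.eq_one_iff x).2 hxW)
    have h1 : act k z.1 = z.1 := congrArg Subtype.val (MulAction.mem_stabilizer_iff.1 hk)
    rw [← hx] at h1
    have h3 : (QuotientGroup.mk (k • x) : P ⧸ W) = QuotientGroup.mk x := h1
    exact h.eq_one_of_coset hWinv hz (QuotientGroup.eq.1 h3.symm)
  have hdvd : 2 ^ n - 1 ∣ 2 ^ d - 1 := by
    haveI : Fintype (P ⧸ W) := Fintype.ofFinite _
    have hT : Nat.card T = 2 ^ d - 1 := by
      rw [Nat.card_eq_fintype_card, Fintype.card_subtype_compl, Fintype.card_subtype_eq, ← Nat.card_eq_fintype_card, hVc]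
    have hK : Nat.card K = 2 ^ n - 1 := by
      have := h.card_invols
      rw [hWc] at this
      omega
    rw [← hT, ← hK, Nat.card_congr (MulAction.selfEquivSigmaOrbitsQuotientStabilizer K T), Nat.card_sigma]
    refine Finset.dvd_sum fun ω _ => ?_
    rw [← Subgroup.index, hstab, Subgroup.index_bot]
  have hnd : n ∣ d := by
    have h1 := Nat.pow_sub_one_gcd_pow_sub_one 2 n d
    rw [Nat.gcd_eq_left hdvd] at h1
    have h3 : (2 : ℕ) ^ Nat.gcd n d = 2 ^ n := by
      have := Nat.one_le_two_pow (n := Nat.gcd n d)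
      have := Nat.one_le_two_pow (n := n)
      omega
    exact (Nat.pow_right_injective le_rfl h3) ▸ Nat.gcd_dvd_right n d
  have hd0 : d ≠ 0 := by
    intro hd0
    rw [hd0, pow_zero] at hVc
    obtain ⟨x, y, hxy⟩ := hna
    haveI : Subsingleton (P ⧸ W) := (Nat.card_eq_one_iff_unique.1 hVc).1
    exact hxy ((Subgroup.mem_center_iff.1 (h.invols_le_center ((QuotientGroup.eq_one_iff x).1
      (Subsingleton.elim _ _)))) y).symm
  have hP : Nat.card P = 2 ^ d * 2 ^ n := by
    rw [W.card_eq_card_quotient_mul_card_subgroup, hVc, hWc]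
  obtain ⟨j, hj⟩ := hnd
  have hj2 : j = 1 ∨ j = 2 := by
    have hn0 : 0 < n := Nat.pos_of_ne_zero fun e0 => hd0 (by rw [hj, e0, zero_mul])
    have hj' : n * j ≤ n * 2 := by rw [← hj, mul_comm n 2]; exact hbound
    have := Nat.le_of_mul_le_mul_left hj' hn0
    have : j ≠ 0 := fun e0 => hd0 (by rw [hj, e0, mul_zero])
    omega
  rcases hj2 with rfl | rfl
  · left; rw [hP, hWc, hj, mul_one, pow_two]
  · right; rw [hP, hWc, hj]; ring

theorem exponent_eq (hna : ∃ x y : P, x * y ≠ y * x) : Monoid.exponent P = 4 := by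
  obtain ⟨hsq, hcm⟩ := h.sq_mem hna
  have hdvd : Monoid.exponent P ∣ 2 ^ 2 := Monoid.exponent_dvd_of_forall_pow_eq_one fun x => by
    rw [show 2 ^ 2 = 2 * 2 by norm_num, pow_mul, pow_two x, pow_two]
    exact h.mem_invols.1 (hsq x)
  obtain ⟨i, hi, hie⟩ := (Nat.dvd_prime_pow Nat.prime_two).1 hdvd
  obtain ⟨x, y, hxy⟩ := hna
  rcases (show i = 0 ∨ i = 1 ∨ i = 2 by omega) with rfl | rfl | rfl
  · have h1 := Monoid.pow_exponent_eq_one x
    rw [hie, pow_zero, pow_one] at h1
    exact absurd (by rw [h1, one_mul, mul_one]) hxy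
  · have h1 := Monoid.pow_exponent_eq_one x
    rw [hie, pow_one, pow_two] at h1
    exact absurd (Subgroup.mem_center_iff.1 (h.invol_central h1) y).symm hxy
  · rw [hie]; norm_num

end Setting

end CfsgLib.SuzukiTwo
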