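import Cfsg.Agent.Lib.SuzukiTwo.PartOne
import Cfsg.Prelude.Def_LieRecognition

/-!
A Suzuki 2-group gives an instance of the setting.
-/

set_option autoImplicit false

namespace CfsgLib.SuzukiTwo

universe u

variable {P : Type u} [Group P]

theorem exists_setting (hP : Cfsg.IsSuzukiTwoGroup P) :
    ∃ (_ : Finite P) (K : Type u) (_ : CommGroup K) (_ : MulDistribMulAction K P),
      Setting P K ∧ ∃ x y : P, x * y ≠ y * x := by
  obtain ⟨hfin, h2, hna, htwo, K, hK, hreg⟩ := hP
  haveI := hK
  letI : CommGroup K := { (inferInstance : Group K) with mul_comm := fun a b => IsCyclic.commutative.is_comm.comm a b }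
  exact ⟨hfin, K, inferInstance, inferInstance, ⟨h2, htwo, fun x y a b c d => hreg x y a b c d⟩, hna⟩

end CfsgLib.SuzukiTwo
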