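import Cfsg.Agent.Lib.SuzukiTwo.Count
import Cfsg.Prelude.Def_LieRecognition

/-!
A Suzuki 2-group of order `q ^ 2` is of type A.
-/

set_option autoImplicit false

namespace CfsgLib.SuzukiTwo

open scoped commutatorElement

universe u v

/-- coordinates of `suzukiTypeA` -/
theorem exists_typeA_coord {F : Type} [Field F] (h2 : ∀ a : F, a + a = 0) (φ : F →+* F) :
    ∃ (mk : F → F → Cfsg.suzukiTypeA F φ),
      (∀ x y x' y', mk x y * mk x' y' = mk (x + x') (y + y' + φ x * x')) ∧ mk 0 0 = 1 ∧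
      (∀ a, ∃ x y, mk x y = a) ∧ (∀ x y x' y', mk x y = mk x' y' → x = x' ∧ y = y') := by
  let M : F → F → Matrix (Fin 3) (Fin 3) F := fun x y => !![1, 0, 0; x, 1, 0; y, φ x, 1]
  have hmul : ∀ x y x' y', M x y * M x' y' = M (x + x') (y + y' + φ x * x') := by
    intro x y x' y'
    ext i j
    fin_cases i <;> fin_cases j <;> simp [M, Matrix.mul_apply, Fin.sum_univ_three] <;> ring
  have hone : M 0 0 = 1 := by
    ext i j
    fin_cases i <;> fin_cases j <;> simp [M]
  let g : F → F → GL (Fin 3) F := fun x y => ⟨M x y, M x (y + φ x * x),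
    by rw [hmul, show x + x = 0 from h2 x, show y + (y + φ x * x) + φ x * x = (y + y) + (φ x * x + φ x * x) by ring,
      h2, h2, add_zero, hone],
    by rw [hmul, show x + x = 0 from h2 x, show (y + φ x * x) + y + φ x * x = (y + y) + (φ x * x + φ x * x) by ring,
      h2, h2, add_zero, hone]⟩
  have hg : ∀ x y x' y', g x y * g x' y' = g (x + x') (y + y' + φ x * x') := fun x y x' y' =>
    Units.ext (hmul x y x' y')
  have hg1 : g 0 0 = 1 := Units.ext hone
  have hmem : ∀ x y, g x y ∈ Cfsg.suzukiTypeA F φ := fun x y => Subgroup.subset_closure ⟨x, y, rfl⟩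
  refine ⟨fun x y => ⟨g x y, hmem x y⟩, fun x y x' y' => Subtype.ext (hg x y x' y'), Subtype.ext hg1, ?_, ?_⟩
  · rintro ⟨a, ha⟩
    suffices h : ∃ x y, g x y = a by
      obtain ⟨x, y, h⟩ := h
      exact ⟨x, y, Subtype.ext h⟩
    induction ha using Subgroup.closure_induction with
    | mem a ha =>
      obtain ⟨x, y, hxy⟩ := ha
      exact ⟨x, y, Units.ext hxy.symm⟩
    | one => exact ⟨0, 0, hg1⟩
    | mul a b _ _ iha ihb =>
      obtain ⟨x, y, rfl⟩ := iha
      obtain ⟨x', y', rfl⟩ := ihb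
      exact ⟨_, _, (hg x y x' y').symm⟩
    | inv a _ iha =>
      obtain ⟨x, y, rfl⟩ := iha
      exact ⟨x, y + φ x * x, Units.ext rfl⟩
  · intro x y x' y' h
    have h' : M x y = M x' y' := congrArg (fun a : Cfsg.suzukiTypeA F φ => ((a : GL (Fin 3) F) : Matrix (Fin 3) (Fin 3) F)) h
    exact ⟨congrFun (congrFun h' 1) 0, congrFun (congrFun h' 2) 0⟩

/-- two groups with central elementary kernels, elementary quotients and the same squares are isomorphic
compatibly with the kernels and the quotients -/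
theorem exists_mulEquiv_of_sq {P : Type u} {A : Type} [Group P] [Group A] [Finite P] [Finite A] {F : Type}
    [AddCommGroup F] (p : P → F) (j : F → P) (r : A → F) (i : F → A)
    (hp : ∀ x y, p (x * y) = p x + p y) (hr : ∀ x y, r (x * y) = r x + r y)
    (hps : Function.Surjective p) (hrs : Function.Surjective r)
    (hj : ∀ a b, j (a + b) = j a * j b) (hi : ∀ a b, i (a + b) = i a * i b)
    (hji : Function.Injective j) (hii : Function.Injective i)
    (hjc : ∀ a x, j a * x = x * j a) (hic : ∀ a x, i a * x = x * i a)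
    (hjk : ∀ x, p x = 0 ↔ ∃ a, j a = x) (hik : ∀ x, r x = 0 ↔ ∃ a, i a = x)
    (Q : F → F) (hPsq : ∀ x, x * x = j (Q (p x))) (hAsq : ∀ x, x * x = i (Q (r x))) :
    ∃ f : P ≃* A, (∀ x, r (f x) = p x) ∧ ∀ c, f (j c) = i c := by
  classical
  have hp1 : p 1 = 0 := by
    have := hp 1 1
    rw [one_mul] at this
    exact left_eq_add.1 this
  have hr1 : r 1 = 0 := by
    have := hr 1 1
    rw [one_mul] at this
    exact left_eq_add.1 this
  have hj0 : j 0 = 1 := by
    have := hj 0 0
    rw [add_zero] at this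
    exact left_eq_mul.1 this
  have hi0 : i 0 = 1 := by
    have := hi 0 0
    rw [add_zero] at this
    exact left_eq_mul.1 this
  let H : Subgroup (P × A) :=
    { carrier := {z | p z.1 = r z.2}
      one_mem' := hp1.trans hr1.symm
      mul_mem' := fun {a b} ha hb => by
        show p (a.1 * b.1) = r (a.2 * b.2)
        rw [hp, hr, show p a.1 = r a.2 from ha, show p b.1 = r b.2 from hb]
      inv_mem' := fun {a} ha => by
        show p a.1⁻¹ = r a.2⁻¹
        have e1 := hp a.1 a.1⁻¹
        have e2 := hr a.2 a.2⁻¹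
        rw [mul_inv_cancel, hp1] at e1
        rw [mul_inv_cancel, hr1] at e2
        rw [eq_neg_of_add_eq_zero_right e1.symm, eq_neg_of_add_eq_zero_right e2.symm,
          show p a.1 = r a.2 from ha] }
  let φN : Multiplicative F →* P × A :=
    { toFun := fun w => (j w.toAdd, i w.toAdd)
      map_one' := Prod.ext hj0 hi0
      map_mul' := fun a b => Prod.ext (hj _ _) (hi _ _) }
  have hNH : φN.range ≤ H := by
    rintro _ ⟨w, rfl⟩
    show p (j w.toAdd) = r (i w.toAdd)
    rw [(hjk _).2 ⟨_, rfl⟩, (hik _).2 ⟨_, rfl⟩]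
  have hsqN : ∀ z ∈ H, z * z ∈ φN.range := fun z hz => ⟨Multiplicative.ofAdd (Q (p z.1)), Prod.ext (hPsq z.1).symm (by
    show i (Q (p z.1)) = z.2 * z.2
    rw [hAsq, show p z.1 = r z.2 from hz])⟩
  let 𝒰 : Set (Subgroup (P × A)) := {U | φN.range ≤ U ∧ U ≤ H ∧ ∀ z ∈ U, z.2 = 1 → z = 1}
  haveI : Finite (Subgroup (P × A)) :=
    Finite.of_injective (fun U : Subgroup (P × A) => (U : Set (P × A))) SetLike.coe_injective
  obtain ⟨U, ⟨hNU, hUH, hU1⟩, hmax⟩ := Set.Finite.exists_maximal (Set.toFinite 𝒰) ⟨φN.range, le_rfl, hNH, by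
    rintro _ ⟨w, rfl⟩ hw
    have hw0 : w = 1 := hii (hw.trans hi0.symm)
    rw [hw0, map_one]⟩
  have hmulI : ∀ z : P × A, ∀ c, Commute (j c, (1 : A)) z := fun z c =>
    Prod.ext (hjc c z.1) ((one_mul z.2).trans (mul_one z.2).symm)
  have hcov : ∀ z ∈ H, ∃ c, z * (j c, 1) ∈ U := by
    intro z hz
    by_contra hcon
    push Not at hcon
    have hzU : z ∉ U := fun e => hcon 0 (by rw [hj0, Prod.mk_one_one, mul_one]; exact e)
    have hcm : ∀ x ∈ H, ∀ y ∈ H, ⁅x, y⁆ ∈ φN.range := fun x hx y hy => by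
      rw [commutator_eq_sq_mul]
      exact mul_mem (mul_mem (hsqN x hx) (hsqN _ (mul_mem (inv_mem hx) hy))) (hsqN _ (inv_mem hy))
    have hconj : ∀ u ∈ U, z * u * z⁻¹ ∈ U := fun u hu => by
      have e : z * u * z⁻¹ = ⁅z, u⁆ * u := by rw [commutatorElement_def]; group
      rw [e]; exact mul_mem (hNU (hcm z hz u (hUH hu))) hu
    have hz2 : z * z ∈ U := hNU (hsqN z hz)
    let U' : Subgroup (P × A) :=
      { carrier := {y | y ∈ U ∨ z * y ∈ U}
        one_mem' := Or.inl U.one_mem
        mul_mem' := fun {a b} ha hb => by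
          rcases ha with ha | ha <;> rcases hb with hb | hb
          · exact Or.inl (mul_mem ha hb)
          · right
            have e : z * (a * b) = (z * a * z⁻¹) * (z * b) := by group
            rw [e]; exact mul_mem (hconj a ha) hb
          · right
            rw [← mul_assoc]; exact mul_mem ha hb
          · left
            have e : a * b = (z * z)⁻¹ * ((z * (z * a) * z⁻¹) * (z * b)) := by group
            rw [e]; exact mul_mem (inv_mem hz2) (mul_mem (hconj _ ha) hb)
        inv_mem' := fun {a} ha => by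
          rcases ha with ha | ha
          · exact Or.inl (inv_mem ha)
          · right
            have e : z * a⁻¹ = (z * (z * a)⁻¹ * z⁻¹) * (z * z) := by group
            rw [e]; exact mul_mem (hconj _ (inv_mem ha)) hz2 }
    have hUU' : U ≤ U' := fun y hy => Or.inl hy
    have hmem : U' ∈ 𝒰 := by
      refine ⟨hNU.trans hUU', fun y hy => ?_, fun y hy hy2 => ?_⟩
      · rcases hy with hy | hy
        · exact hUH hy
        · have e : y = z⁻¹ * (z * y) := by group
          rw [e]; exact mul_mem (inv_mem hz) (hUH hy)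
      · rcases hy with hy | hy
        · exact hU1 y hy hy2
        · exfalso
          have hyH : p y.1 = 0 := by
            have e : y = z⁻¹ * (z * y) := by group
            have hy' : y ∈ H := by rw [e]; exact mul_mem (inv_mem hz) (hUH hy)
            rw [show p y.1 = r y.2 from hy', hy2, hr1]
          obtain ⟨c, hc⟩ := (hjk _).1 hyH
          exact hcon c (by rwa [show ((j c, 1) : P × A) = y from Prod.ext hc hy2.symm])
    exact hzU (hmax hmem hUU' (Or.inr hz2))
  have hexist : ∀ g : P, ∃ a : A, (g, a) ∈ U := by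
    intro g
    obtain ⟨a, ha⟩ := hrs (p g)
    obtain ⟨c, hc⟩ := hcov (g, a) ha.symm
    refine ⟨a * i (-c), ?_⟩
    have := mul_mem hc (hNU ⟨Multiplicative.ofAdd (-c), rfl⟩)
    have e : ((g, a) * (j c, 1) : P × A) * φN (Multiplicative.ofAdd (-c)) = (g, a * i (-c)) := by
      refine Prod.ext ?_ ?_
      · show g * j c * j (-c) = g
        rw [mul_assoc, ← hj, add_neg_cancel, hj0, mul_one]
      · show a * 1 * i (-c) = _
        rw [mul_one]
    rwa [e] at this
  have huniq : ∀ g a a', (g, a) ∈ U → (g, a') ∈ U → a = a' := by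
    intro g a a' h h'
    have h1 : (1, a⁻¹ * a') ∈ U := by
      have := mul_mem (inv_mem h) h'
      rwa [show ((g, a)⁻¹ * (g, a') : P × A) = (1, a⁻¹ * a') from Prod.ext (inv_mul_cancel g) rfl] at this
    have hr0 : r (a⁻¹ * a') = 0 := (hUH h1).symm.trans hp1
    obtain ⟨c, hc⟩ := (hik _).1 hr0
    have h3 := hU1 _ (mul_mem h1 (hNU ⟨Multiplicative.ofAdd (-c), rfl⟩)) (by
      show a⁻¹ * a' * i (-c) = 1
      rw [← hc, ← hi, add_neg_cancel, hi0])
    have h4 : j (-c) = 1 := by
      have := congrArg Prod.fst h3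
      rwa [show ((1, a⁻¹ * a') * φN (Multiplicative.ofAdd (-c)) : P × A).1 = 1 * j (-c) from rfl, one_mul] at this
    have hc0 : c = 0 := neg_eq_zero.1 (hji (h4.trans hj0.symm))
    rw [hc0, hi0] at hc
    exact inv_mul_eq_one.1 hc.symm
  choose f hf using hexist
  let fh : P →* A := MonoidHom.mk' f fun x y => huniq _ _ _ (hf _) (mul_mem (hf x) (hf y))
  refine ⟨MulEquiv.ofBijective fh ⟨(injective_iff_map_eq_one fh).2 fun g hg => ?_, fun a => ?_⟩,
    fun x => (hUH (hf x)).symm, fun c => huniq _ _ _ (hf (j c)) (hNU ⟨Multiplicative.ofAdd c, rfl⟩)⟩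
  · have hgU : (g, (1 : A)) ∈ U := by
      have := hf g
      rwa [show f g = 1 from hg] at this
    exact congrArg Prod.fst (hU1 _ hgU rfl)
  · obtain ⟨g, hg⟩ := hps (r a)
    obtain ⟨c, hc⟩ := hcov (g, a) hg
    refine ⟨g * j c, huniq _ _ _ (hf _) ?_⟩
    rwa [show ((g, a) * (j c, 1) : P × A) = (g * j c, a) from Prod.ext rfl (mul_one a)] at hc

/-- two groups with central elementary kernels, elementary quotients and the same squares are isomorphic -/
theorem nonempty_mulEquiv_of_sq {P : Type u} {A : Type} [Group P] [Group A] [Finite P] [Finite A] {F : Type}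
    [AddCommGroup F] (p : P → F) (j : F → P) (r : A → F) (i : F → A)
    (hp : ∀ x y, p (x * y) = p x + p y) (hr : ∀ x y, r (x * y) = r x + r y)
    (hps : Function.Surjective p) (hrs : Function.Surjective r)
    (hj : ∀ a b, j (a + b) = j a * j b) (hi : ∀ a b, i (a + b) = i a * i b)
    (hji : Function.Injective j) (hii : Function.Injective i)
    (hjc : ∀ a x, j a * x = x * j a) (hic : ∀ a x, i a * x = x * i a)
    (hjk : ∀ x, p x = 0 ↔ ∃ a, j a = x) (hik : ∀ x, r x = 0 ↔ ∃ a, i a = x)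
    (Q : F → F) (hPsq : ∀ x, x * x = j (Q (p x))) (hAsq : ∀ x, x * x = i (Q (r x))) :
    Nonempty (P ≃* A) :=
  (exists_mulEquiv_of_sq p j r i hp hr hps hrs hj hi hji hii hjc hic hjk hik Q hPsq hAsq).elim
    fun f _ => ⟨f⟩

/-- Higman: coordinates of a group of order `q ^ 2` -/
theorem Setting.exists_coord_sq {P : Type u} [Group P] [Finite P] {K : Type v} [CommGroup K]
    [MulDistribMulAction K P] (h : Setting P K) (hna : ∃ x y : P, x * y ≠ y * x)
    (hcard : Nat.card P = Nat.card (invols P) ^ 2) :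
    ∃ (F : Type) (_ : Field F) (_ : Fintype F) (φ : F ≃+* F) (p : P → F) (j : F → P) (ψ : K → F),
      Fintype.card F = Nat.card (invols P) ∧ φ ≠ RingEquiv.refl F ∧ Odd (orderOf φ) ∧
      (∀ a : F, a + a = 0) ∧ (∀ x y, p (x * y) = p x + p y) ∧ Function.Surjective p ∧
      (∀ a b, j (a + b) = j a * j b) ∧ Function.Injective j ∧ (∀ a x, j a * x = x * j a) ∧
      (∀ x, p x = 0 ↔ ∃ a, j a = x) ∧ (∀ x, x * x = j (φ (p x) * p x)) ∧
      (∀ k x, p (k • x) = ψ k * p x) ∧ ∀ a : F, a ≠ 0 → ∃ k, ψ k = a := by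
  classical
  obtain ⟨hsq, hcm⟩ := h.sq_mem hna
  set W := invols P with hWdef
  haveI hWn : W.Normal := ⟨fun w hw g => by
    rw [Subgroup.mem_center_iff.1 (h.invols_le_center hw) g, mul_inv_cancel_right]; exact hw⟩
  letI : CommGroup (P ⧸ W) := { (inferInstance : Group (P ⧸ W)) with
    mul_comm := fun a b => QuotientGroup.induction_on a fun x => QuotientGroup.induction_on b fun y => by
      refine (commutatorElement_eq_one_iff_mul_comm).1 ?_
      show ⁅QuotientGroup.mk' W x, QuotientGroup.mk' W y⁆ = 1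
      rw [← map_commutatorElement]
      exact (QuotientGroup.eq_one_iff _).2 (hcm x y) }
  let V := Additive (P ⧸ W)
  let pv : P → V := fun x => Additive.ofMul (QuotientGroup.mk x : P ⧸ W)
  have hsurjV : ∀ v : V, ∃ x : P, pv x = v := fun v => QuotientGroup.mk_surjective (Additive.toMul v)
  have hpv0 : ∀ x, pv x = 0 ↔ x ∈ W := fun x => QuotientGroup.eq_one_iff x
  have hWinv : ∀ k : K, ∀ x ∈ W, k • x ∈ W := fun k x hx => h.smul_mem_invols k hx
  let act : K → V → V := fun k v => Additive.ofMul (Quotient.map' (fun x => k • x) (fun x y hxy => by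
    rw [QuotientGroup.leftRel_apply] at hxy ⊢
    rw [← smul_inv', ← smul_mul']
    exact hWinv k _ hxy) (Additive.toMul v))
  have hact' : ∀ k x, act k (pv x) = pv (k • x) := fun k x => rfl
  letI : DistribMulAction K V :=
    { smul := act
      one_smul := fun v => by
        obtain ⟨x, rfl⟩ := hsurjV v
        exact congrArg pv (one_smul K x)
      mul_smul := fun a b v => by
        obtain ⟨x, rfl⟩ := hsurjV v
        exact congrArg pv (mul_smul a b x)
      smul_zero := fun k => congrArg pv (smul_one k)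
      smul_add := fun k a b => by
        obtain ⟨x, rfl⟩ := hsurjV a
        obtain ⟨y, rfl⟩ := hsurjV b
        exact congrArg pv (smul_mul' k x y) }
  have hVW : Nat.card V = Nat.card W := by
    have h1 := W.card_eq_card_quotient_mul_card_subgroup
    rw [hcard, pow_two] at h1
    exact ((Nat.card_congr Additive.toMul).trans (Nat.eq_of_mul_eq_mul_right Nat.card_pos h1).symm)
  haveI := h.finite_auts
  have hq := h.card_invols
  haveI : Nontrivial V := by
    rw [← Finite.one_lt_card_iff_nontrivial, hVW, hq]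
    have := Nat.card_pos (α := K)
    omega
  have hfreeV : ∀ (k : K) (v : V), v ≠ 0 → k • v = v → k = 1 := fun k v hv hk => by
    obtain ⟨x, rfl⟩ := hsurjV v
    exact h.eq_one_of_coset hWinv (fun hx => hv ((hpv0 x).2 hx)) (QuotientGroup.eq.1 (show
      (QuotientGroup.mk x : P ⧸ W) = QuotientGroup.mk (k • x) from (show pv (k • x) = pv x from hk).symm))
  have hregV : ∀ a b : V, a ≠ 0 → b ≠ 0 → ∃! k : K, k • a = b := by
    intro a b ha hb
    haveI : Fintype V := Fintype.ofFinite V
    let f : K → {v : V // v ≠ 0} := fun k => ⟨k • a, fun e0 => ha (by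
      have e1 := congrArg (k⁻¹ • ·) e0
      simpa using e1)⟩
    have hinj : Function.Injective f := fun k k' e0 => by
      have e1 : k • a = k' • a := congrArg Subtype.val e0
      exact (inv_mul_eq_one.1 (hfreeV (k'⁻¹ * k) a ha (by rw [mul_smul, e1, inv_smul_smul]))).symm
    have hc : Nat.card {v : V // v ≠ 0} = Nat.card K := by
      rw [Nat.card_eq_fintype_card, Fintype.card_subtype_compl, Fintype.card_subtype_eq,
        ← Nat.card_eq_fintype_card, hVW, hq, Nat.add_sub_cancel]
    obtain ⟨k, hk⟩ := ((Nat.bijective_iff_injective_and_card f).2 ⟨hinj, hc.symm⟩).2 ⟨b, hb⟩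
    exact ⟨k, congrArg Subtype.val hk, fun j hj => hinj (Subtype.ext (hj.trans (congrArg Subtype.val hk).symm))⟩
  have hV2 : ∀ v : V, v + v = 0 := fun v => by
    obtain ⟨x, rfl⟩ := hsurjV v
    exact (hpv0 (x * x)).2 (hsq x)
  obtain ⟨L', hF', hfin', e', χ', he', hχ', -⟩ := exists_lineField (E := V) (K := K) hV2 hregV
  obtain ⟨L, hF, hfin, e, χ, he, hadd, hW, hact, hχ, h2, hL2⟩ := h.exists_coord
  have hcardL : Nat.card L = Nat.card W :=
    Nat.card_eq_of_bijective (fun l : L => (⟨e l, (hW _).2 ⟨l, rfl⟩⟩ : W))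
      ⟨fun a b hab => he (congrArg Subtype.val hab), fun w => (hW _).1 w.2 |>.elim fun l hl => ⟨l, Subtype.ext hl⟩⟩
  haveI : Fact (Nat.Prime 2) := ⟨Nat.prime_two⟩
  obtain ⟨n, hn⟩ := (h.isTwo.to_subgroup W).exists_card_eq
  have hn0 : n ≠ 0 := fun e0 => by
    rw [hcardL, hn, e0] at hL2
    norm_num at hL2
  let F := GaloisField 2 n
  haveI : Fintype F := Fintype.ofFinite F
  haveI : Fintype L := Fintype.ofFinite L
  haveI : Fintype L' := Fintype.ofFinite L'
  have hcF : Fintype.card F = Nat.card W := by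
    rw [← Nat.card_eq_fintype_card, GaloisField.card 2 n hn0, hn]
  let ι : F ≃+* L := FiniteField.ringEquivOfCardEq (by rw [hcF, ← Nat.card_eq_fintype_card, hcardL])
  let ι' : F ≃+* L' := FiniteField.ringEquivOfCardEq (by
    rw [hcF, ← Nat.card_eq_fintype_card, Nat.card_congr e'.toEquiv, hVW])
  have h2F : ∀ a : F, a + a = 0 := fun a => ι.injective (by rw [map_add, h2, map_zero])
  let p : P → F := fun x => ι'.symm (e'.symm (pv x))
  have hp : ∀ x y, p (x * y) = p x + p y := fun x y => by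
    show ι'.symm (e'.symm (pv x + pv y)) = _
    rw [map_add, map_add]
  have hps : Function.Surjective p := fun a => by
    obtain ⟨x, hx⟩ := hsurjV (e' (ι' a))
    exact ⟨x, by show ι'.symm (e'.symm (pv x)) = a; rw [hx, e'.symm_apply_apply, ι'.symm_apply_apply]⟩
  have hp0 : ∀ x, p x = 0 ↔ x ∈ W := fun x => by
    rw [← hpv0]
    show ι'.symm (e'.symm (pv x)) = 0 ↔ _
    rw [EmbeddingLike.map_eq_zero_iff, EmbeddingLike.map_eq_zero_iff]
  let ψ : K → F := fun k => ι'.symm (χ' k)
  let Xk : K → F := fun k => ι.symm (χ k)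
  have hpk : ∀ k x, p (k • x) = ψ k * p x := fun k x => by
    show ι'.symm (e'.symm (pv (k • x))) = ι'.symm (χ' k) * ι'.symm (e'.symm (pv x))
    rw [← map_mul]
    congr 1
    apply e'.injective
    rw [← he', e'.apply_symm_apply, e'.apply_symm_apply]
    rfl
  have hψ : ∀ a : F, a ≠ 0 → ∃ k, ψ k = a := fun a ha => by
    obtain ⟨k, hk⟩ := hχ' (ι' a) ((EmbeddingLike.map_ne_zero_iff (f := ι')).2 ha)
    exact ⟨k, by show ι'.symm (χ' k) = a; rw [hk, ι'.symm_apply_apply]⟩
  let j0 : F → P := fun a => e (ι a)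
  have hj0i : Function.Injective j0 := he.comp ι.injective
  have hj0a : ∀ a b, j0 (a + b) = j0 a * j0 b := fun a b => by
    show e (ι (a + b)) = _; rw [map_add, hadd]
  have hj0W : ∀ x, x ∈ W ↔ ∃ a, j0 a = x := fun x => (hW x).trans
    ⟨fun ⟨l, hl⟩ => ⟨ι.symm l, by show e (ι (ι.symm l)) = x; rw [ι.apply_symm_apply, hl]⟩, fun ⟨a, ha⟩ => ⟨ι a, ha⟩⟩
  have hj0k : ∀ k a, k • j0 a = j0 (Xk k * a) := fun k a => by
    show k • e (ι a) = e (ι (ι.symm (χ k) * a))
    rw [hact, map_mul, ι.apply_symm_apply]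
  choose sec hsec using hps
  choose Q0 hQ0 using fun a => (hj0W _).1 (hsq (sec a))
  have hsqW : ∀ x w : P, w ∈ W → x * w * (x * w) = x * x := fun x w hw => by
    rw [(show Commute w x from (Subgroup.mem_center_iff.1 (h.invols_le_center hw) x).symm).mul_mul_mul_comm,
      h.mem_invols.1 hw, mul_one]
  have hp1 : p 1 = 0 := (hp0 1).2 W.one_mem
  have hQp : ∀ x, j0 (Q0 (p x)) = x * x := fun x => by
    rw [hQ0]
    have hd : (sec (p x))⁻¹ * x ∈ W := (hp0 _).1 (by
      have := hp (sec (p x)) ((sec (p x))⁻¹ * x)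
      rw [mul_inv_cancel_left, hsec] at this
      exact left_eq_add.1 this)
    conv_rhs => rw [show x = sec (p x) * ((sec (p x))⁻¹ * x) by group, hsqW _ _ hd]
  have hQk : ∀ k a, Q0 (ψ k * a) = Xk k * Q0 a := fun k a => hj0i (by
    conv_lhs => rw [← hsec a, ← hpk]
    rw [hQp, ← hj0k, hQ0, smul_mul'])
  have hQ00 : Q0 0 = 0 := hj0i (by
    rw [← hp1, hQp, one_mul]
    have := hj0a 0 0
    rw [add_zero] at this
    exact (left_eq_mul.1 this).symm.trans (by rw [hp1]))
  have hj00 : j0 0 = 1 := by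
    have := hj0a 0 0
    rw [add_zero] at this
    exact left_eq_mul.1 this
  have hQne : ∀ a, a ≠ 0 → Q0 a ≠ 0 := fun a ha e0 => ha (by
    rw [← hsec a]
    refine (hp0 _).2 (h.mem_invols.2 ?_)
    rw [← hQ0, e0, hj00])
  set c1 := Q0 1 with hc1def
  have hc1 : c1 ≠ 0 := hQne 1 one_ne_zero
  let Q1 : F → F := fun a => Q0 a / c1
  let j1 : F → P := fun a => j0 (a * c1)
  have hj1i : Function.Injective j1 := hj0i.comp (mul_left_injective₀ hc1)
  have hj1a : ∀ a b, j1 (a + b) = j1 a * j1 b := fun a b => by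
    show j0 ((a + b) * c1) = _; rw [add_mul, hj0a]
  have hj1W : ∀ x, x ∈ W ↔ ∃ a, j1 a = x := fun x => (hj0W x).trans
    ⟨fun ⟨a, ha⟩ => ⟨a / c1, by show j0 (a / c1 * c1) = x; rw [div_mul_cancel₀ _ hc1, ha]⟩, fun ⟨a, ha⟩ => ⟨_, ha⟩⟩
  have hQ1p : ∀ x, j1 (Q1 (p x)) = x * x := fun x => by
    show j0 (Q0 (p x) / c1 * c1) = _
    rw [div_mul_cancel₀ _ hc1, hQp]
  have hQ10 : Q1 0 = 0 := by show Q0 0 / c1 = 0; rw [hQ00, zero_div]
  have hQ11 : Q1 1 = 1 := div_self hc1
  have hQmul : ∀ a b, Q1 (a * b) = Q1 a * Q1 b := fun a b => by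
    by_cases ha : a = 0
    · rw [ha, zero_mul, hQ10, zero_mul]
    obtain ⟨k, rfl⟩ := hψ a ha
    have e1 : Q0 (ψ k) = Xk k * c1 := by
      have := hQk k 1
      rwa [mul_one] at this
    show Q0 (ψ k * b) / c1 = Q0 (ψ k) / c1 * (Q0 b / c1)
    rw [hQk, e1, mul_div_cancel_right₀ _ hc1, mul_div_assoc]
  have hQinj : Function.Injective Q1 := by
    intro a b hab
    by_cases hb : b = 0
    · subst hb
      rw [hQ10] at hab
      by_contra ha
      exact hQne a ha ((div_eq_zero_iff.1 hab).resolve_right hc1)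
    have hQb : Q1 b ≠ 0 := fun e0 => hQne b hb ((div_eq_zero_iff.1 e0).resolve_right hc1)
    have h1 : Q1 (a / b) = 1 := by
      have := hQmul (a / b) b
      rw [div_mul_cancel₀ _ hb, hab] at this
      exact (mul_left_eq_self₀.1 this.symm).resolve_right hQb
    have ha : a / b ≠ 0 := fun e0 => one_ne_zero (by rw [← h1, e0, hQ10])
    obtain ⟨k, hk⟩ := hψ _ ha
    have e1 : Q0 (ψ k) = Xk k * c1 := by
      have := hQk k 1
      rwa [mul_one] at this
    have e2 : Xk k = 1 := by
      rw [← h1, ← hk]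
      show Xk k = Q0 (ψ k) / c1
      rw [e1, mul_div_cancel_right₀ _ hc1]
    have hk1 : k = 1 := by
      obtain ⟨x, y, -, hx1, hxx, -, -⟩ := h.two
      obtain ⟨w, rfl⟩ := (hj0W x).1 (h.mem_invols.2 hxx)
      exact h.eq_one_of_fixed hx1 (by rw [hj0k, e2, one_mul])
    have : a / b = 1 := by
      rw [← hk, hk1]
      have := hpk 1 (sec 1)
      rw [one_smul, hsec, mul_one] at this
      exact this.symm
    exact eq_of_div_eq_one this
  let B : F → F → F := fun a b => Q1 (a + b) + Q1 a + Q1 b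
  have hBc : ∀ x y, j1 (B (p x) (p y)) = ⁅y, x⁆ := fun x y => by
    show j1 (Q1 (p x + p y) + Q1 (p x) + Q1 (p y)) = _
    rw [← hp, hj1a, hj1a, hQ1p, hQ1p, hQ1p]
    have hc : ⁅y, x⁆ ∈ Subgroup.center P := h.invols_le_center (hcm y x)
    have e0 : x * y * (x * y) = x * x * (y * y) * ⁅y, x⁆ := by
      have := CfsgLib.PGroup.mul_pow_of_central hc 2
      rwa [Nat.choose_self, pow_one, pow_two, pow_two, pow_two] at this
    rw [e0]
    have hwx := Subgroup.mem_center_iff.1 (h.invols_le_center (hsq x))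
    have hwc := Subgroup.mem_center_iff.1 hc
    calc x * x * (y * y) * ⁅y, x⁆ * (x * x) * (y * y)
        = x * x * (y * y) * (⁅y, x⁆ * (x * x)) * (y * y) := by group
      _ = x * x * (y * y) * ((x * x) * ⁅y, x⁆) * (y * y) := by rw [hwc]
      _ = x * x * (y * y * (x * x)) * (⁅y, x⁆ * (y * y)) := by group
      _ = x * x * (x * x * (y * y)) * (y * y * ⁅y, x⁆) := by rw [hwx, ← hwc (y * y)]
      _ = (x * x) * (x * x) * ((y * y) * (y * y)) * ⁅y, x⁆ := by group
      _ = ⁅y, x⁆ := by rw [h.mem_invols.1 (hsq x), h.mem_invols.1 (hsq y), one_mul, one_mul]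
  have hps' : ∀ a, ∃ x, p x = a := fun a => ⟨sec a, hsec a⟩
  have hBadd : ∀ a b b', B a (b + b') = B a b + B a b' := fun a b b' => hj1i (by
    obtain ⟨x, rfl⟩ := hps' a
    obtain ⟨y, rfl⟩ := hps' b
    obtain ⟨y', rfl⟩ := hps' b'
    rw [← hp, hBc, hj1a (B (p x) (p y)) (B (p x) (p y')), hBc, hBc,
      CfsgLib.PGroup.commutatorElement_mul_left_of_central _ _ _ (h.invols_le_center (hcm y' x))])
  have hBsym : ∀ a b, B a b = B b a := fun a b => by
    show Q1 (a + b) + Q1 a + Q1 b = Q1 (b + a) + Q1 b + Q1 a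
    rw [add_comm a b]; ring
  have hBmul : ∀ l a b, B (l * a) (l * b) = Q1 l * B a b := fun l a b => by
    show Q1 (l * a + l * b) + Q1 (l * a) + Q1 (l * b) = Q1 l * (Q1 (a + b) + Q1 a + Q1 b)
    rw [← mul_add, hQmul, hQmul, hQmul]; ring
  have hBne : ∃ a b, B a b ≠ 0 := by
    by_contra hc
    push Not at hc
    obtain ⟨x, y, hxy⟩ := hna
    refine hxy (commutatorElement_eq_one_iff_mul_comm.1 ?_)
    rw [← hBc y x, hc]
    show j0 (0 * c1) = 1
    rw [zero_mul, hj00]
  haveI : Finite (F ≃+* F) :=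
    Finite.of_injective (fun s : F ≃+* F => (s : F → F)) DFunLike.coe_injective
  letI : Fintype (F ≃+* F) := Fintype.ofFinite _
  obtain ⟨α, hα⟩ := exists_expansion h2F (AddMonoidHom.mk' (B 1) (hBadd 1))
  have hα' : ∀ b, B 1 b = ∑ σ, α σ * σ b := hα
  let g : (F ≃+* F) → F → F := fun σ a => Q1 a / σ a
  have hg0 : ∀ σ, g σ 0 = 0 := fun σ => by show Q1 0 / σ 0 = 0; rw [hQ10, zero_div]
  have hgB : ∀ a b, B a b = ∑ σ, α σ * g σ a * σ b := fun a b => by
    by_cases ha : a = 0
    · subst ha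
      simp only [hg0, mul_zero, zero_mul, Finset.sum_const_zero]
      show Q1 (0 + b) + Q1 0 + Q1 b = 0
      rw [zero_add, hQ10, add_zero, h2F]
    calc B a b = B (a * 1) (a * (b / a)) := by rw [mul_one, mul_div_cancel₀ _ ha]
      _ = Q1 a * B 1 (b / a) := hBmul a 1 _
      _ = _ := by
        rw [hα', Finset.mul_sum]
        refine Finset.sum_congr rfl fun σ _ => ?_
        show _ = α σ * (Q1 a / σ a) * σ b
        rw [map_div₀]; ring
  obtain ⟨β, hβ⟩ : ∃ β, α β ≠ 0 := by
    by_contra hc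
    push Not at hc
    obtain ⟨a, b, hab⟩ := hBne
    exact hab (by simp [hgB, hc])
  have hgadd : ∀ a a', g β (a + a') = g β a + g β a' := fun a a' => by
    have hz := eq_zero_of_sum_eq_zero (fun σ => α σ * (g σ (a + a') + g σ a + g σ a')) (fun b => by
      simp only [mul_add, add_mul, Finset.sum_add_distrib, ← hgB]
      rw [hBsym (a + a') b, hBadd b a a', hBsym b a, hBsym b a']
      calc B a b + B a' b + B a b + B a' b = (B a b + B a b) + (B a' b + B a' b) := by ring
        _ = 0 := by rw [h2F, h2F, add_zero])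
    have h1 := (mul_eq_zero.1 (congrFun hz β)).resolve_left hβ
    generalize g β (a + a') = A at h1 ⊢
    generalize g β a = A1 at h1 ⊢
    generalize g β a' = A2 at h1 ⊢
    calc A = (A1 + A1) + (A2 + A2) + A := by rw [h2F, h2F, zero_add, zero_add]
      _ = (A + A1 + A2) + (A1 + A2) := by ring
      _ = A1 + A2 := by rw [h1, zero_add]
  let gh : F →+* F :=
    { toFun := g β
      map_one' := by show Q1 1 / β 1 = 1; rw [hQ11, map_one, div_one]
      map_mul' := fun a b => by
        show Q1 (a * b) / β (a * b) = Q1 a / β a * (Q1 b / β b)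
        rw [hQmul, map_mul, mul_div_mul_comm]
      map_zero' := hg0 β
      map_add' := hgadd }
  let γ : F ≃+* F := RingEquiv.ofBijective gh ⟨gh.injective, Finite.surjective_of_injective gh.injective⟩
  let φ : F ≃+* F := γ.trans β.symm
  have hQφ : ∀ a, Q1 a = β (φ a * a) := fun a => by
    rw [map_mul]
    show Q1 a = β (β.symm (g β a)) * β a
    rw [β.apply_symm_apply]
    show Q1 a = Q1 a / β a * β a
    by_cases ha : a = 0
    · rw [ha, hQ10, map_zero, mul_zero]
    rw [div_mul_cancel₀ _ ((EmbeddingLike.map_ne_zero_iff (f := β)).2 ha)]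
  have hφ1 : φ ≠ RingEquiv.refl F := fun e0 => by
    obtain ⟨a, b, hab⟩ := hBne
    apply hab
    have hQ2 : ∀ a, Q1 a = β a * β a := fun a => by rw [hQφ, e0, map_mul]; rfl
    show Q1 (a + b) + Q1 a + Q1 b = 0
    rw [hQ2, hQ2, hQ2, map_add]
    calc (β a + β b) * (β a + β b) + β a * β a + β b * β b
        = (β a * β a + β a * β a) + (β b * β b + β b * β b) + (β a * β b + β a * β b) := by ring
      _ = 0 := by simp only [h2F, add_zero]
  have hodd : Odd (orderOf φ) := by
    rw [← Nat.not_even_iff_odd]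
    rintro ⟨m, hm⟩
    have hord : 0 < orderOf φ := orderOf_pos φ
    let t : F → F := fun l => ∑ k ∈ Finset.range m, (φ ^ (2 * k)) l
    have hend : ∀ l, (φ ^ (2 * m)) l = l := fun l => by
      rw [show 2 * m = orderOf φ by omega, pow_orderOf_eq_one]; rfl
    have ht2 : ∀ l, φ (φ (t l)) = t l := by
      intro l
      have e1 : ∀ k, φ (φ ((φ ^ (2 * k)) l)) = (φ ^ (2 * (k + 1))) l := fun k => by
        rw [show 2 * (k + 1) = (2 * k + 1) + 1 by ring, pow_succ', pow_succ']; rfl
      simp only [t, map_sum, e1]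
      have hs1 := Finset.sum_range_succ' (fun k => (φ ^ (2 * k)) l) m
      have hs2 := Finset.sum_range_succ (fun k => (φ ^ (2 * k)) l) m
      simp only [mul_zero, pow_zero] at hs1
      rw [hend, hs1] at hs2
      exact add_right_cancel (b := l) hs2
    obtain ⟨l, hl⟩ : ∃ l, φ (t l) ≠ t l := by
      by_contra hc
      push Not at hc
      have hsum : ∀ x, ∑ k ∈ Finset.range (2 * m), (φ ^ k) x = 0 := by
        intro x
        have key : ∀ i, ∑ k ∈ Finset.range (2 * i), (φ ^ k) x =
            (∑ k ∈ Finset.range i, (φ ^ (2 * k)) x) + φ (∑ k ∈ Finset.range i, (φ ^ (2 * k)) x) := by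
          intro i
          induction i with
          | zero => simp
          | succ i ih =>
            rw [show 2 * (i + 1) = 2 * i + 1 + 1 by ring, Finset.sum_range_succ, Finset.sum_range_succ, ih,
              Finset.sum_range_succ (fun k => (φ ^ (2 * k)) x), map_add, pow_succ' φ (2 * i)]
            show _ + φ ((φ ^ (2 * i)) x) = _
            ring
        rw [key, hc x, h2F]
      let ind : (F ≃+* F) → F := fun τ => ∑ k ∈ Finset.range (2 * m), if τ = φ ^ k then 1 else 0
      have hz := eq_zero_of_sum_eq_zero ind (fun x => by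
        refine (Finset.sum_congr rfl fun σ _ => Finset.sum_mul _ _ _).trans ?_
        rw [Finset.sum_comm]
        simp only [ite_mul, one_mul, zero_mul, Finset.sum_ite_eq', Finset.mem_univ, if_true]
        exact hsum x)
      have hz1 : ind 1 = 1 := by
        show ∑ k ∈ Finset.range (2 * m), (if (1 : F ≃+* F) = φ ^ k then (1 : F) else 0) = 1
        rw [Finset.sum_eq_single 0]
        · simp
        · intro k hk hk0
          rw [if_neg fun e0 => hk0 (by
            have := Nat.le_of_dvd (Nat.pos_of_ne_zero hk0) (orderOf_dvd_of_pow_eq_one e0.symm)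
            have := Finset.mem_range.1 hk
            omega)]
        · intro h0
          simp only [Finset.mem_range] at h0
          omega
      exact one_ne_zero (hz1.symm.trans (congrFun hz 1))
    set z := t l with hz
    have hz0 : z ≠ 0 := fun e0 => hl (by rw [e0, map_zero])
    have hφz : φ z ≠ 0 := (EmbeddingLike.map_ne_zero_iff (f := φ)).2 hz0
    have e1 : φ (z / φ z) * (z / φ z) = 1 := by
      rw [map_div₀, ht2, div_mul_div_comm, mul_comm (φ z) z, div_self (mul_ne_zero hz0 hφz)]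
    have e2 : z / φ z = 1 := hQinj (by rw [hQφ, e1, map_one, hQ11])
    exact hl (eq_of_div_eq_one e2).symm
  refine ⟨F, inferInstance, inferInstance, φ, p, fun a => j1 (β a), ψ, hcF, hφ1, hodd, h2F, hp,
    hps', fun a b => ?_, hj1i.comp β.injective, fun a x => ?_, fun x => ?_, fun x => ?_, hpk, hψ⟩
  · show j1 (β (a + b)) = _
    rw [map_add, hj1a]
  · exact (Subgroup.mem_center_iff.1 (h.invols_le_center ((hj1W _).2 ⟨β a, rfl⟩)) x).symm
  · rw [hp0, hj1W]
    exact ⟨fun ⟨a, ha⟩ => ⟨β.symm a, by show j1 (β (β.symm a)) = x; rw [β.apply_symm_apply, ha]⟩,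
      fun ⟨a, ha⟩ => ⟨β a, ha⟩⟩
  · show x * x = j1 (β (φ (p x) * p x))
    rw [← hQφ, hQ1p]

/-- Higman: the groups of order `q ^ 2` are of type A -/
theorem Setting.exists_typeA {P : Type u} [Group P] [Finite P] {K : Type v} [CommGroup K]
    [MulDistribMulAction K P] (h : Setting P K) (hna : ∃ x y : P, x * y ≠ y * x)
    (hcard : Nat.card P = Nat.card (invols P) ^ 2) :
    ∃ (F : Type) (_ : Field F) (_ : Fintype F) (φ : F ≃+* F), Fintype.card F = Nat.card (invols P) ∧
      φ ≠ RingEquiv.refl F ∧ Odd (orderOf φ) ∧ Nonempty (P ≃* Cfsg.suzukiTypeA F (φ : F →+* F)) := by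
  obtain ⟨F, hF, hfF, φ, p, j, ψ, hcF, hφ1, hodd, h2F, hp, hps', hja, hji, hjc, hjk, hsq, -, -⟩ :=
    h.exists_coord_sq hna hcard
  refine ⟨F, hF, hfF, φ, hcF, hφ1, hodd, ?_⟩
  obtain ⟨mk, hmk, -, hmks, hmki⟩ := exists_typeA_coord h2F (φ : F →+* F)
  choose r ry hr using hmks
  have hrmk : ∀ x y, r (mk x y) = x := fun x y => (hmki _ _ _ _ (hr (mk x y))).1
  refine nonempty_mulEquiv_of_sq p j r (fun w => mk 0 w) hp ?_ hps' (fun a => ⟨mk a 0, hrmk a 0⟩) hja ?_
    hji (fun a b hab => (hmki _ _ _ _ hab).2) hjc ?_ hjk ?_ (fun a => φ a * a) hsq ?_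
  · intro a b
    conv_lhs => rw [← hr a, ← hr b, hmk, hrmk]
  · intro a b
    show mk 0 (a + b) = mk 0 a * mk 0 b
    rw [hmk]; simp
  · intro a x
    rw [← hr x, hmk, hmk]
    simp [add_comm]
  · intro x
    exact ⟨fun h0 => ⟨ry x, by rw [← h0]; exact hr x⟩, fun ⟨a, ha⟩ => by rw [← ha]; exact hrmk 0 a⟩
  · intro x
    conv_lhs => rw [← hr x, hmk, h2F, h2F, zero_add]
    rfl

end CfsgLib.SuzukiTwo
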