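import Cfsg.Agent.Lib.SuzukiTwo.Setting

/-!
Higman's theorem, first part: in a nonabelian 2-group with an abelian automorphism group regular on
the involutions the centre is elementary abelian.
-/

set_option autoImplicit false

namespace CfsgLib.SuzukiTwo

open scoped commutatorElement

universe u v

variable {P : Type u} [Group P] [Finite P] {K : Type v} [CommGroup K] [MulDistribMulAction K P]

/-- the action on an invariant subgroup -/
@[instance_reducible]
def subAction (C : Subgroup P) (hC : ∀ k : K, ∀ x ∈ C, k • x ∈ C) : MulDistribMulAction K C where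
  smul k x := ⟨k • (x : P), hC k x x.2⟩
  one_smul x := Subtype.ext (one_smul K (x : P))
  mul_smul a b x := Subtype.ext (mul_smul a b (x : P))
  smul_mul a x y := Subtype.ext (smul_mul' a (x : P) (y : P))
  smul_one a := Subtype.ext (smul_one a)

omit [Finite P] in
theorem commutator_eq_sq_mul (y z : P) : ⁅y, z⁆ = (y * y) * ((y⁻¹ * z) * (y⁻¹ * z)) * (z⁻¹ * z⁻¹) := by
  rw [commutatorElement_def]; group

omit [Finite P] in
theorem even_choose_two_pow {m : ℕ} (hm : 2 ≤ m) : 2 ∣ (2 ^ m).choose 2 := by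
  obtain ⟨j, rfl⟩ : ∃ j, m = j + 2 := ⟨m - 2, by omega⟩
  refine ⟨2 ^ j * (2 ^ (j + 2) - 1), ?_⟩
  rw [Nat.choose_two_right, show 2 ^ (j + 2) * (2 ^ (j + 2) - 1) = 2 * (2 * (2 ^ j * (2 ^ (j + 2) - 1))) by ring,
    Nat.mul_div_cancel_left _ two_pos]

/-- an equivariant alternating biadditive pairing into the involutions is trivial -/
theorem pairing_trivial {L : Type u} [Field L] [Finite L] {e : L → P} {χ : K → L}
    (he : Function.Injective e) (hadd : ∀ a b, e (a + b) = e a * e b)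
    (hact : ∀ k l, k • e l = e (χ k * l)) (hχ : ∀ l : L, l ≠ 0 → ∃ k, χ k = l)
    (h2 : ∀ l : L, l + l = 0) (p : L → L → P) (hmem : ∀ u v, ∃ l, e l = p u v)
    (hl : ∀ u u' v, p (u + u') v = p u v * p u' v) (hr : ∀ u v v', p u (v + v') = p u v * p u v')
    (halt : ∀ u, p u u = 1) (hk : ∀ k u v, p (χ k * u) (χ k * v) = k • p u v) :
    ∀ u v, p u v = 1 := by
  have he0 : e 0 = 1 := by
    have := hadd 0 0
    rw [add_zero] at this
    exact left_eq_mul.1 this
  choose c hc using hmem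
  intro u v
  rw [← hc, equivariant_alternating_eq_zero h2 c
    (fun a a' b => he (by rw [hadd, hc, hc, hc, hl]))
    (fun a b b' => he (by rw [hadd, hc, hc, hc, hr]))
    (fun a => he (by rw [hc, halt, he0]))
    (fun l a b hl0 => by
      obtain ⟨k, rfl⟩ := hχ l hl0
      exact he (by rw [← hact, hc, hc, hk])) u v, he0]

namespace Setting

theorem restrict (h : Setting P K) {C : Subgroup P} (hC : ∀ k : K, ∀ x ∈ C, k • x ∈ C)
    (hW : invols P ≤ C) :
    letI := subAction C hC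
    Setting C K := by
  letI := subAction C hC
  obtain ⟨x, y, hxy, hx1, hxx, hy1, hyy⟩ := h.two
  refine ⟨h.isTwo.to_subgroup C,
    ⟨⟨x, hW (h.mem_invols.2 hxx)⟩, ⟨y, hW (h.mem_invols.2 hyy)⟩, fun e => hxy (congrArg Subtype.val e),
      fun e => hx1 (congrArg Subtype.val e), Subtype.ext hxx, fun e => hy1 (congrArg Subtype.val e),
      Subtype.ext hyy⟩, fun a b ha haa hb hbb => ?_⟩
  obtain ⟨k, hk, huniq⟩ := h.reg (a : P) b (fun e => ha (Subtype.ext e)) (congrArg Subtype.val haa)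
    (fun e => hb (Subtype.ext e)) (congrArg Subtype.val hbb)
  exact ⟨k, Subtype.ext hk, fun j hj => huniq j (congrArg Subtype.val hj)⟩

variable (h : Setting P K)
include h

/-- the induction step -/
theorem center_sq_step
    (ih : ∀ (C : Subgroup P) (hC : ∀ k : K, ∀ x ∈ C, k • x ∈ C), C ≠ ⊤ → invols P ≤ C →
      (∃ x ∈ C, ∃ y ∈ C, x * y ≠ y * x) → ∀ z ∈ C, (∀ y ∈ C, y * z = z * y) → z * z = 1)
    (hna : ∃ x y : P, x * y ≠ y * x) : ∀ z ∈ Subgroup.center P, z * z = 1 := by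
  classical
  intro z0 hz0
  by_contra hz0sq
  obtain ⟨x0, y0, hxy0⟩ := hna
  obtain ⟨m, hm, hroot⟩ := h.exists_exponent (A := Subgroup.center P) (fun k x hx => smul_mem_center k hx)
  have hAc : ∀ a ∈ Subgroup.center P, ∀ y : P, Commute a y := fun a ha y =>
    ((Subgroup.mem_center_iff.1 ha) y).symm
  have hArt := h.exists_root (A := Subgroup.center P) (fun a ha b _ => (hAc a ha b).eq) hroot
  have hm2 : 2 ≤ m := by
    by_contra hlt
    refine hz0sq ?_
    obtain ⟨d, hd⟩ := Nat.exists_eq_add_of_le (show m ≤ 1 by omega)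
    have := congrArg (· ^ 2 ^ d) (hm z0 hz0)
    simp only [one_pow, ← pow_mul, ← pow_add, ← hd, pow_one] at this
    rwa [pow_two] at this
  set A := Subgroup.center P with hAdef
  let π := QuotientGroup.mk' A
  let T : Subgroup (P ⧸ A) :=
    { carrier := {z | z ∈ Subgroup.center (P ⧸ A) ∧ z * z = 1}
      one_mem' := ⟨one_mem _, one_mul 1⟩
      mul_mem' := fun {a b} ha hb => ⟨mul_mem ha.1 hb.1, by
        rw [(show Commute b a from ((Subgroup.mem_center_iff.1 hb.1) a).symm).mul_mul_mul_comm a b,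
          ha.2, hb.2, one_mul]⟩
      inv_mem' := fun {a} ha => ⟨inv_mem ha.1, by rw [← mul_inv_rev, ha.2, inv_one]⟩ }
  let B : Subgroup P := T.comap π
  have hmemB : ∀ x, x ∈ B ↔ x * x ∈ A ∧ ∀ y, ⁅x, y⁆ ∈ A := by
    intro x
    show π x ∈ Subgroup.center (P ⧸ A) ∧ π x * π x = 1 ↔ _
    rw [← map_mul, show π (x * x) = 1 ↔ x * x ∈ A from QuotientGroup.eq_one_iff _, and_comm]
    refine and_congr_right fun _ => ⟨fun hc y => ?_, fun hc => Subgroup.mem_center_iff.2 fun z => ?_⟩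
    · refine (QuotientGroup.eq_one_iff _).1 ?_
      show π ⁅x, y⁆ = 1
      rw [map_commutatorElement, commutatorElement_eq_one_iff_mul_comm]
      exact (Subgroup.mem_center_iff.1 hc (π y)).symm
    · obtain ⟨y, rfl⟩ := QuotientGroup.mk'_surjective A z
      refine (commutatorElement_eq_one_iff_mul_comm.1 ?_).symm
      rw [← map_commutatorElement]
      exact (QuotientGroup.eq_one_iff _).2 (hc y)
  have hBsq : ∀ x ∈ B, x * x ∈ A := fun x hx => ((hmemB x).1 hx).1
  have hBcm : ∀ x ∈ B, ∀ y, ⁅x, y⁆ ∈ A := fun x hx => ((hmemB x).1 hx).2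
  have hAB : A ≤ B := fun a ha => (hmemB a).2 ⟨A.mul_mem ha ha, fun y => by
    rw [commutatorElement_eq_one_iff_mul_comm.2 (hAc a ha y).eq]; exact A.one_mem⟩
  have hBinv : ∀ k : K, ∀ x ∈ B, k • x ∈ B := fun k x hx => (hmemB _).2
    ⟨by rw [← smul_mul']; exact smul_mem_center k (hBsq x hx), fun y => by
      have e : ⁅k • x, y⁆ = k • ⁅x, k⁻¹ • y⁆ := by rw [smul_comm_elt, smul_inv_smul]
      rw [e]; exact smul_mem_center k (hBcm x hx _)⟩
  have hcW : ∀ x ∈ B, ∀ y : P, ⁅x, y⁆ ∈ invols P := fun x hx y => h.mem_invols.2 (by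
    have h1 := CfsgLib.PGroup.commutatorElement_pow_left_of_central (hBcm x hx y) 2
    rw [pow_two, pow_two] at h1
    rw [← h1, commutatorElement_eq_one_iff_mul_comm]
    exact (hAc _ (hBsq x hx) y).eq)
  have hc2 : ∀ x ∈ B, ∀ y : P, ⁅x, y⁆ * ⁅x, y⁆ = 1 := fun x hx y => h.mem_invols.1 (hcW x hx y)
  have hWpow : ∀ w, w * w = 1 → ∀ j : ℕ, 1 ≤ j → w ^ 2 ^ j = (1 : P) := fun w hw j hj => by
    obtain ⟨j, rfl⟩ : ∃ i, j = i + 1 := ⟨j - 1, by omega⟩
    rw [pow_succ', pow_mul, pow_two, hw, one_pow]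
  have hfmul : ∀ x ∈ B, ∀ y ∈ B, (x * y) ^ 2 ^ m = x ^ 2 ^ m * y ^ 2 ^ m := by
    intro x _ y hy
    rw [CfsgLib.PGroup.mul_pow_of_central (hBcm y hy x)]
    obtain ⟨j, hj⟩ := even_choose_two_pow hm2
    rw [hj, pow_mul, pow_two, hc2 y hy x, one_pow, mul_one]
  have hfW : ∀ x ∈ B, x ^ 2 ^ m ∈ invols P := fun x hx => h.mem_invols.2 (by
    rw [← pow_two, ← pow_mul, ← pow_succ, pow_succ', pow_mul, pow_two]
    exact hm _ (hBsq x hx))
  have hfker : ∀ x ∈ B, x ^ 2 ^ m = 1 → x ∈ A := by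
    intro x hx hfx
    obtain ⟨b, hb, hbe⟩ := hArt (m - 1) (by omega) (x * x) (hBsq x hx) (by
      rw [← pow_two, ← pow_mul, ← pow_succ', show m - 1 + 1 = m by omega, hfx])
    rw [show m - (m - 1) = 1 by omega, pow_one, pow_two] at hbe
    have h1 : (x * b⁻¹) * (x * b⁻¹) = 1 := by
      rw [((hAc b⁻¹ (A.inv_mem hb) x)).mul_mul_mul_comm x b⁻¹, ← mul_inv_rev, hbe, mul_inv_cancel]
    have := A.mul_mem (h.invols_le_center (h.mem_invols.2 h1)) hb
    simpa using this
  haveI hAn : A.Normal := inferInstance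
  -- `B` is bigger than the centre
  have hne : A ≠ ⊤ := fun e => hxy0 (hAc x0 (e ▸ Subgroup.mem_top x0) y0).eq
  obtain ⟨xB, hxB, hxBA⟩ : ∃ x ∈ B, x ∉ A := by
    haveI : Fact (Nat.Prime 2) := ⟨Nat.prime_two⟩
    haveI : Nontrivial (P ⧸ A) := by
      obtain ⟨x, hx⟩ : ∃ x, x ∉ A := by
        by_contra hc
        push Not at hc
        exact hne (eq_top_iff.2 fun x _ => hc x)
      exact ⟨⟨π x, 1, fun e => hx ((QuotientGroup.eq_one_iff x).1 e)⟩⟩
    haveI := (h.isTwo.to_quotient A).center_nontrivial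
    obtain ⟨z, hz, hz1, hzz⟩ := exists_invol_mem (h.isTwo.to_quotient A)
      ((Subgroup.nontrivial_iff_ne_bot (Subgroup.center (P ⧸ A))).1 inferInstance)
    obtain ⟨x, rfl⟩ := QuotientGroup.mk'_surjective A z
    exact ⟨x, ⟨hz, hzz⟩, fun hx => hz1 ((QuotientGroup.eq_one_iff x).2 hx)⟩
  obtain ⟨L, hF, hfin, e, χ, he, hadd, hW, hact, hχ, h2, -⟩ := h.exists_coord
  -- lifts
  let fB : B →* P :=
    { toFun := fun x => (x : P) ^ 2 ^ m
      map_one' := one_pow _
      map_mul' := fun x y => hfmul x x.2 y y.2 }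
  have hsurjB : ∀ w ∈ invols P, ∃ x ∈ B, x ^ 2 ^ m = w := by
    intro w hw
    obtain ⟨⟨x, hx⟩, hxw⟩ := h.invols_le (S := fB.range) (fun k z hz => by
      obtain ⟨⟨x, hx⟩, rfl⟩ := hz
      exact ⟨⟨k • x, hBinv k x hx⟩, (smul_pow' k x (2 ^ m)).symm⟩) (fun e => hxBA (hfker xB hxB (by
        have : fB ⟨xB, hxB⟩ ∈ fB.range := ⟨_, rfl⟩
        rw [e, Subgroup.mem_bot] at this
        exact this))) hw
    exact ⟨x, hx, hxw⟩
  have hcongr : ∀ x ∈ B, ∀ x' ∈ B, x ^ 2 ^ m = x' ^ 2 ^ m → ∃ a ∈ A, x' = x * a := by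
    intro x hx x' hx' hxx'
    refine ⟨x⁻¹ * x', hfker _ (B.mul_mem (B.inv_mem hx) hx') ?_, by group⟩
    rw [hfmul _ (B.inv_mem hx) _ hx', inv_pow, hxx', inv_mul_cancel]
  have hcA : ∀ x y a, a ∈ A → ⁅x * a, y⁆ = ⁅x, y⁆ := fun x y a ha => by
    rw [CfsgLib.PGroup.commutatorElement_mul_left_of_central _ _ _
        (by rw [commutatorElement_eq_one_iff_mul_comm.2 (hAc a ha y).eq]; exact one_mem _),
      commutatorElement_eq_one_iff_mul_comm.2 (hAc a ha y).eq, mul_one]
  have hcA' : ∀ x y a, a ∈ A → ⁅x, y * a⁆ = ⁅x, y⁆ := fun x y a ha => by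
    rw [CfsgLib.PGroup.commutatorElement_mul_right_of_central _ _ _
        (by rw [commutatorElement_eq_one_iff_mul_comm.2 (hAc a ha x).eq.symm]; exact one_mem _),
      commutatorElement_eq_one_iff_mul_comm.2 (hAc a ha x).eq.symm, mul_one]
  choose sB hsB hsBe using fun l : L => hsurjB (e l) ((hW _).2 ⟨l, rfl⟩)
  have hcoordB : ∀ x ∈ B, ∀ l, x ^ 2 ^ m = e l → ∃ a ∈ A, x = sB l * a := fun x hx l hl =>
    hcongr _ (hsB l) x hx ((hsBe l).trans hl.symm)
  -- `B` is abelian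
  have hBcomm : ∀ x ∈ B, ∀ y ∈ B, x * y = y * x := by
    have hp : ∀ x ∈ B, ∀ y ∈ B, ∀ u v, x ^ 2 ^ m = e u → y ^ 2 ^ m = e v → ⁅x, y⁆ = ⁅sB u, sB v⁆ := by
      intro x hx y hy u v hu hv
      obtain ⟨a, ha, rfl⟩ := hcoordB x hx u hu
      obtain ⟨b, hb, rfl⟩ := hcoordB y hy v hv
      rw [hcA _ _ a ha, hcA' _ _ b hb]
    have key := pairing_trivial he hadd hact hχ h2 (fun u v => ⁅sB u, sB v⁆)
      (fun u v => (hW _).1 (hcW _ (hsB u) _))
      (fun u u' v => by
        show ⁅sB (u + u'), sB v⁆ = ⁅sB u, sB v⁆ * ⁅sB u', sB v⁆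
        rw [← hp _ (B.mul_mem (hsB u) (hsB u')) _ (hsB v) (u + u') v
            (by rw [hfmul _ (hsB u) _ (hsB u'), hsBe, hsBe, hadd]) (hsBe v),
          CfsgLib.PGroup.commutatorElement_mul_left_of_central _ _ _ (hBcm _ (hsB u') _)])
      (fun u v v' => by
        show ⁅sB u, sB (v + v')⁆ = ⁅sB u, sB v⁆ * ⁅sB u, sB v'⁆
        rw [← hp _ (hsB u) _ (B.mul_mem (hsB v) (hsB v')) u (v + v') (hsBe u)
            (by rw [hfmul _ (hsB v) _ (hsB v'), hsBe, hsBe, hadd]),
          CfsgLib.PGroup.commutatorElement_mul_right_of_central _ _ _ (hBcm _ (hsB u) _)])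
      (fun u => commutatorElement_self _)
      (fun k u v => by
        show ⁅sB (χ k * u), sB (χ k * v)⁆ = k • ⁅sB u, sB v⁆
        rw [smul_comm_elt, hp _ (hBinv k _ (hsB u)) _ (hBinv k _ (hsB v)) (χ k * u) (χ k * v)
          (by rw [← smul_pow', hsBe, hact]) (by rw [← smul_pow', hsBe, hact])])
    intro x hx y hy
    obtain ⟨u, hu⟩ := (hW _).1 (hfW x hx)
    obtain ⟨v, hv⟩ := (hW _).1 (hfW y hy)
    exact commutatorElement_eq_one_iff_mul_comm.1 ((hp x hx y hy u v hu.symm hv.symm).trans (key u v))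
  -- elements with square in the centre lie in `B`
  have hAsq : ∀ y, y * y ∈ A → y ∈ B := by
    intro y hy
    let hy' : B →* P :=
      { toFun := fun x => (x : P) * x * ⁅(x : P), y⁆
        map_one' := by simp [commutatorElement_def]
        map_mul' := fun a b => by
          rw [Subgroup.coe_mul,
            CfsgLib.PGroup.commutatorElement_mul_left_of_central _ _ _ (hBcm b b.2 y),
            (show Commute (b : P) a from hBcomm b b.2 a a.2).mul_mul_mul_comm (a : P) b]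
          rw [(hAc _ (hBcm a a.2 y) ((b : P) * b)).symm.mul_mul_mul_comm] }
    have hhA : ∀ x : B, hy' x ∈ A := fun x => A.mul_mem (hBsq x x.2) (hBcm x x.2 y)
    have key : ∀ i j, m ≤ i + j → ∀ a ∈ A, a ^ 2 ^ j ∈ hy'.range := by
      intro i
      induction i with
      | zero =>
        intro j hj a ha
        obtain ⟨d, hd⟩ := Nat.exists_eq_add_of_le (show m ≤ j by omega)
        rw [hd, pow_add, pow_mul, hm a ha, one_pow]
        exact one_mem _
      | succ i ih =>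
        intro j hj a ha
        obtain ⟨x, hx, hxe⟩ := hsurjB (a ^ 2 ^ (m - 1)) (h.mem_invols.2 (by
          rw [← pow_two, ← pow_mul, ← pow_succ, show m - 1 + 1 = m by omega, hm a ha]))
        have hxh : hy' ⟨x, hx⟩ ^ 2 ^ (m - 1) = a ^ 2 ^ (m - 1) := by
          show (x * x * ⁅x, y⁆) ^ 2 ^ (m - 1) = _
          rw [((hAc _ (hBcm x hx y) (x * x)).symm).mul_pow, hWpow _ (hc2 x hx y) _ (by omega), mul_one,
            ← pow_two, ← pow_mul, ← pow_succ', show m - 1 + 1 = m by omega, hxe]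
        obtain ⟨a', ha', hae⟩ := hArt (m - 1) (by omega) (a * (hy' ⟨x, hx⟩)⁻¹)
          (A.mul_mem ha (A.inv_mem (hhA _))) (by
            rw [(hAc a ha _).mul_pow, inv_pow, hxh, mul_inv_cancel])
        rw [show m - (m - 1) = 1 by omega, pow_one] at hae
        have e1 : a = a' ^ 2 * hy' ⟨x, hx⟩ := by rw [hae, inv_mul_cancel_right]
        rw [e1, (hAc _ (A.pow_mem ha' 2) _).mul_pow, ← pow_mul, ← pow_succ']
        exact mul_mem (ih (j + 1) (by omega) a' ha') (pow_mem (show hy' ⟨x, hx⟩ ∈ hy'.range from ⟨_, rfl⟩) _)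
    obtain ⟨⟨x, hx⟩, hxe⟩ := key m 0 le_rfl (y * y)⁻¹ (A.inv_mem hy)
    have hxe' : x * x * ⁅x, y⁆ = (y * y)⁻¹ := by
      rw [pow_zero, pow_one] at hxe; exact hxe
    have hxy : x * x * ⁅x, y⁆ = ⁅x, y⁆ * (x * x) := (hAc _ (hBcm x hx y) _).eq.symm
    have h1 : (y * x) * (y * x) = 1 := by
      have e1 : y⁻¹ * x * y * x⁻¹ = ⁅x, y⁆ := by
        calc y⁻¹ * x * y * x⁻¹ = y⁻¹ * ⁅x, y⁆ * y := by rw [commutatorElement_def]; group
          _ = ⁅x, y⁆ := by rw [mul_assoc, (hAc _ (hBcm x hx y) y).eq, ← mul_assoc, inv_mul_cancel, one_mul]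
      calc y * x * (y * x) = y * y * ((y⁻¹ * x * y * x⁻¹) * (x * x)) := by group
        _ = 1 := by rw [e1, ← hxy, hxe', mul_inv_cancel]
    have hyx : y * x ∈ B := hAB (h.invols_le_center (h.mem_invols.2 h1))
    simpa using B.mul_mem hyx (B.inv_mem hx)
  -- the centraliser of `B`
  let C := Subgroup.centralizer (B : Set P)
  have hsqC : ∀ y, y * y ∈ C := fun y => Subgroup.mem_centralizer_iff.2 fun x hx => by
    rw [← commutatorElement_eq_one_iff_mul_comm,
      CfsgLib.PGroup.commutatorElement_mul_right_of_central _ _ _ (hBcm x hx y), hc2 x hx y]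
  have hCne : ∀ z, z ∈ C → ∀ x ∈ B, x * z = z * x := fun z hz x hx => Subgroup.mem_centralizer_iff.1 hz x hx
  have hBC : B ≤ C := fun b hb => Subgroup.mem_centralizer_iff.2 fun x hx => hBcomm x hx b hb
  have hCtop : C ≠ ⊤ := fun e => hxBA (Subgroup.mem_center_iff.2 fun g =>
    (hCne g (e ▸ Subgroup.mem_top g) xB hxB).symm)
  have hCinv : ∀ k : K, ∀ z ∈ C, k • z ∈ C := fun k z hz => Subgroup.mem_centralizer_iff.2 fun x hx => by
    calc x * k • z = k • (k⁻¹ • x * z) := by rw [smul_mul', smul_inv_smul]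
      _ = k • (z * k⁻¹ • x) := by rw [hCne z hz _ (hBinv k⁻¹ x hx)]
      _ = _ := by rw [smul_mul', smul_inv_smul]
  by_cases hCB : C ≤ B
  · -- `P / B` embeds by fourth powers
    have hsqB : ∀ y, y * y ∈ B := fun y => hCB (hsqC y)
    have hcomA : ∀ y z : P, ⁅y, z⁆ ∈ A := by
      intro y z
      have hb : ⁅y, z⁆ ∈ B := by
        rw [commutator_eq_sq_mul]
        exact B.mul_mem (B.mul_mem (hsqB y) (hsqB _)) (hsqB z⁻¹)
      refine hfker _ hb ?_
      set b := ⁅y, z⁆ with hbdef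
      have e1 : ⁅y * y, z⁆ = ⁅y, b⁆ * (b * b) := by
        simp only [hbdef, commutatorElement_def]; group
      have e2 : ⁅y, b⁆ ∈ invols P := by
        rw [← commutatorElement_inv]; exact (invols P).inv_mem (hcW b hb y)
      have e3 : b * b ∈ invols P := by
        have : b * b = ⁅y, b⁆⁻¹ * ⁅y * y, z⁆ := by rw [e1, inv_mul_cancel_left]
        rw [this]; exact (invols P).mul_mem ((invols P).inv_mem e2) (hcW _ (hsqB y) z)
      calc b ^ 2 ^ m = (b * b) ^ 2 ^ (m - 1) := by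
            rw [← pow_two, ← pow_mul, ← pow_succ', show m - 1 + 1 = m by omega]
        _ = 1 := hWpow _ (h.mem_invols.1 e3) _ (by omega)
    let g : P →* P :=
      { toFun := fun y => (y * y) ^ 2 ^ m
        map_one' := by simp
        map_mul' := fun y z => by
          have e1 : y * z * (y * z) = y * y * ((z * z) * ⁅y⁻¹, z⁆) := by
            rw [(hAc _ (hcomA y⁻¹ z) (z * z)).symm.eq]
            simp only [commutatorElement_def]; group
          rw [e1, hfmul _ (hsqB y) _ (B.mul_mem (hsqB z) (hAB (hcomA _ _))),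
            hfmul _ (hsqB z) _ (hAB (hcomA _ _)), hm _ (hcomA _ _), mul_one] }
    have hgker : ∀ y, g y = 1 → y ∈ B := fun y hy => hAsq y (hfker _ (hsqB y) hy)
    have hgsurj : ∀ l, ∃ y, g y = e l := by
      intro l
      obtain ⟨z, hz⟩ : ∃ z, z ∉ B := by
        by_contra hc
        push Not at hc
        exact hCtop (eq_top_iff.2 fun x _ => hBC (hc x))
      obtain ⟨y, hy⟩ := h.invols_le (S := g.range) (fun k w hw => by
        obtain ⟨y, rfl⟩ := hw
        exact ⟨k • y, by show (k • y * k • y) ^ 2 ^ m = k • (y * y) ^ 2 ^ m; rw [smul_pow', smul_mul']⟩)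
        (fun e => hz (hgker z (by
          have : g z ∈ g.range := ⟨_, rfl⟩
          rw [e, Subgroup.mem_bot] at this
          exact this))) ((hW _).2 ⟨l, rfl⟩)
      exact ⟨y, hy⟩
    choose sP hsPe using hgsurj
    have hp : ∀ y, ∀ x ∈ B, ∀ u v, g y = e u → x ^ 2 ^ m = e v → ⁅y, x⁆ = ⁅sP u, sB v⁆ := by
      intro y x hx u v hu hv
      obtain ⟨a, ha, rfl⟩ := hcoordB x hx v hv
      rw [hcA' _ _ a ha]
      set b := (sP u)⁻¹ * y with hb
      have hbB : b ∈ B := hgker _ (by rw [hb, map_mul, map_inv, hsPe, hu, inv_mul_cancel])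
      rw [show y = sP u * b by rw [hb]; group,
        CfsgLib.PGroup.commutatorElement_mul_left_of_central _ _ _ (hBcm b hbB _),
        commutatorElement_eq_one_iff_mul_comm.2 (hBcomm b hbB _ (hsB v)), mul_one]
    have hcm' : ∀ y, ∀ x ∈ B, ⁅y, x⁆ ∈ invols P := fun y x hx => by
      rw [← commutatorElement_inv]; exact (invols P).inv_mem (hcW x hx y)
    have key := pairing_trivial he hadd hact hχ h2 (fun u v => ⁅sP u, sB v⁆)
      (fun u v => (hW _).1 (hcm' _ _ (hsB v)))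
      (fun u u' v => by
        show ⁅sP (u + u'), sB v⁆ = ⁅sP u, sB v⁆ * ⁅sP u', sB v⁆
        rw [← hp (sP u * sP u') _ (hsB v) (u + u') v (by rw [map_mul, hsPe, hsPe, hadd]) (hsBe v),
          CfsgLib.PGroup.commutatorElement_mul_left_of_central _ _ _
            (h.invols_le_center (hcm' _ _ (hsB v)))])
      (fun u v v' => by
        show ⁅sP u, sB (v + v')⁆ = ⁅sP u, sB v⁆ * ⁅sP u, sB v'⁆
        rw [← hp _ _ (B.mul_mem (hsB v) (hsB v')) u (v + v') (hsPe u)
            (by rw [hfmul _ (hsB v) _ (hsB v'), hsBe, hsBe, hadd]),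
          CfsgLib.PGroup.commutatorElement_mul_right_of_central _ _ _
            (h.invols_le_center (hcm' _ _ (hsB v')))])
      (fun u => by
        show ⁅sP u, sB u⁆ = 1
        rw [← hp (sP u) (sP u * sP u) (hsqB _) u u (hsPe u) (hsPe u), commutatorElement_eq_one_iff_mul_comm]
        group)
      (fun k u v => by
        show ⁅sP (χ k * u), sB (χ k * v)⁆ = k • ⁅sP u, sB v⁆
        rw [smul_comm_elt, hp (k • sP u) _ (hBinv k _ (hsB v)) (χ k * u) (χ k * v)
          (by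
            show (k • sP u * k • sP u) ^ 2 ^ m = _
            rw [← smul_mul', ← smul_pow', show (sP u * sP u) ^ 2 ^ m = e u from hsPe u, hact])
          (by rw [← smul_pow', hsBe, hact])])
    refine hCtop (eq_top_iff.2 fun y _ => Subgroup.mem_centralizer_iff.2 fun x hx => ?_)
    obtain ⟨u, hu⟩ := (hW _).1 (hfW _ (hsqB y))
    obtain ⟨v, hv⟩ := (hW _).1 (hfW x hx)
    exact (commutatorElement_eq_one_iff_mul_comm.1 ((hp y x hx u v hu.symm hv.symm).trans (key u v))).symm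
  -- the centraliser is an abelian group of larger exponent
  have hCcomm : ∀ a ∈ C, ∀ b ∈ C, a * b = b * a := by
    by_contra hc
    push Not at hc
    obtain ⟨a, ha, b, hb, hab⟩ := hc
    have := ih C hCinv hCtop (fun w hw => hBC (hAB (h.invols_le_center hw))) ⟨a, ha, b, hb, hab⟩ xB (hBC hxB)
      fun y hy => (hCne y hy xB hxB).symm
    exact hxBA (h.invols_le_center (h.mem_invols.2 this))
  obtain ⟨M, hM, hCroot⟩ := h.exists_exponent (A := C) hCinv
  have hCrt := h.exists_root (A := C) hCcomm hCroot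
  have hmM : m + 2 ≤ M := by
    obtain ⟨y, hyC, hyB⟩ : ∃ y ∈ C, y ∉ B := by
      by_contra hc
      push Not at hc
      exact hCB hc
    obtain ⟨y', hy'C, hy'B, hy'2⟩ : ∃ y' ∈ C, y' ∉ B ∧ y' * y' ∈ B := by
      have hex : ∃ i, y ^ 2 ^ i ∈ B := ⟨M, by rw [hM y hyC]; exact B.one_mem⟩
      obtain ⟨i, hi⟩ : ∃ i, Nat.find hex = i + 1 := by
        refine Nat.exists_eq_succ_of_ne_zero fun e => hyB ?_
        have := Nat.find_spec hex
        rwa [e, pow_zero, pow_one] at this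
      refine ⟨y ^ 2 ^ i, C.pow_mem hyC _, Nat.find_min hex (by omega), ?_⟩
      rw [← pow_two, ← pow_mul, ← pow_succ, ← hi]
      exact Nat.find_spec hex
    by_contra hlt
    apply hy'B
    apply hAsq
    refine hfker _ hy'2 ?_
    obtain ⟨d, hd⟩ := Nat.exists_eq_add_of_le (show M ≤ m + 1 by omega)
    rw [← pow_two, ← pow_mul, ← pow_succ', hd, pow_add, pow_mul, hM y' hy'C, one_pow]
  have hCA : ∀ i ≤ m, ∀ c ∈ C, c ^ 2 ^ i = 1 → c ∈ A := by
    intro i
    induction i with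
    | zero => intro _ c _ hc; rw [pow_zero, pow_one] at hc; rw [hc]; exact A.one_mem
    | succ i ihi =>
      intro hi c hc hci
      obtain ⟨a, ha, hae⟩ := hroot i (by omega) (c ^ 2 ^ i) (h.mem_invols.2 (by
        rw [← pow_two, ← pow_mul, ← pow_succ, hci]))
      have h1 := ihi (by omega) (c * a⁻¹) (C.mul_mem hc (C.inv_mem (hBC (hAB ha)))) (by
        rw [((hAc a⁻¹ (A.inv_mem ha) c).symm).mul_pow, inv_pow, hae, mul_inv_cancel])
      simpa using A.mul_mem h1 ha
  refine hCtop (eq_top_iff.2 fun z _ => ?_)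
  by_contra hzC
  have hconj : ∀ x ∈ C, z * x * z⁻¹ ∈ C := fun x hx => Subgroup.mem_centralizer_iff.2 fun b hb => by
    have hb' : z⁻¹ * b * z ∈ B := by
      have : z⁻¹ * b * z = ⁅z⁻¹, b⁆ * b := by rw [commutatorElement_def]; group
      rw [this, ← commutatorElement_inv]
      exact B.mul_mem (B.inv_mem (hAB (hBcm b hb _))) hb
    calc b * (z * x * z⁻¹) = z * (z⁻¹ * b * z * x) * z⁻¹ := by group
      _ = z * (x * (z⁻¹ * b * z)) * z⁻¹ := by rw [hCne x hx _ hb']
      _ = _ := by group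
  let d : C →* P :=
    { toFun := fun x => z * x * z⁻¹ * (x : P)⁻¹
      map_one' := by simp
      map_mul' := fun a b => by
        have hdb : z * (b : P) * z⁻¹ * (b : P)⁻¹ ∈ C := C.mul_mem (hconj b b.2) (C.inv_mem b.2)
        rw [Subgroup.coe_mul]
        calc z * ((a : P) * b) * z⁻¹ * ((a : P) * b)⁻¹
            = (z * a * z⁻¹) * ((z * b * z⁻¹ * (b : P)⁻¹) * (a : P)⁻¹) := by group
          _ = (z * a * z⁻¹) * ((a : P)⁻¹ * (z * b * z⁻¹ * (b : P)⁻¹)) := by
              rw [hCcomm _ hdb _ (C.inv_mem a.2)]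
          _ = _ := by group }
  have hdC : ∀ x : C, d x ∈ C := fun x => C.mul_mem (hconj x x.2) (C.inv_mem x.2)
  have hdA : ∀ a (ha : a ∈ C), a ∈ A → d ⟨a, ha⟩ = 1 := fun a _ haA => by
    show z * a * z⁻¹ * a⁻¹ = 1
    rw [show z * a = a * z from (hAc a haA z).eq.symm]; group
  have hdd : ∀ x : C, d ⟨d x, hdC x⟩ * (d x * d x) = 1 := by
    intro x
    have h1 : z * z * (x : P) * (z * z)⁻¹ = x := by
      rw [hCcomm (z * z) (hsqC z) x x.2, mul_inv_cancel_right]
    show z * d x * z⁻¹ * (d x)⁻¹ * (d x * d x) = 1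
    calc z * d x * z⁻¹ * (d x)⁻¹ * (d x * d x) = (z * d x * z⁻¹) * d x := by group
      _ = z * z * (x : P) * (z * z)⁻¹ * (x : P)⁻¹ := by
          show (z * (z * x * z⁻¹ * (x : P)⁻¹) * z⁻¹) * (z * x * z⁻¹ * (x : P)⁻¹) = _
          group
      _ = 1 := by rw [h1, mul_inv_cancel]
  -- the displacements are high powers
  have key : ∀ j, m ≤ j → j ≤ M - 1 → ∀ x : C, ∃ u ∈ C, d x = u ^ 2 ^ j := by
    intro j hj
    induction j, hj using Nat.le_induction with
    | base =>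
      intro _ x
      obtain ⟨u, hu, hue⟩ := hCrt (M - m) (Nat.sub_le _ _) (d x) (hdC x) (by
        rw [← map_pow]
        refine hdA _ _ (hCA m le_rfl _ (C.pow_mem x.2 _) ?_)
        show ((x : P) ^ 2 ^ (M - m)) ^ 2 ^ m = 1
        rw [← pow_mul, ← pow_add, Nat.sub_add_cancel (show m ≤ M by omega), hM _ x.2])
      exact ⟨u, hu, by rw [← hue, show M - (M - m) = m by omega]⟩
    | succ j hj ihj =>
      intro hjM x
      obtain ⟨u, hu, hue⟩ := ihj (by omega) x
      obtain ⟨w, hw, hwe⟩ := ihj (by omega) ⟨u, hu⟩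
      have h1 : d ⟨d x, hdC x⟩ = w ^ 2 ^ (j + j) := by
        have : (⟨d x, hdC x⟩ : C) = (⟨u, hu⟩ : C) ^ 2 ^ j := Subtype.ext hue
        rw [this, map_pow, hwe, ← pow_mul, ← pow_add]
      have hcom : Commute (d x) (w ^ 2 ^ (j + j - 1)) := hCcomm _ (hdC x) _ (C.pow_mem hw _)
      have h3 : d x * w ^ 2 ^ (j + j - 1) ∈ invols P := by
        refine h.mem_invols.2 ?_
        rw [hcom.symm.mul_mul_mul_comm, ← pow_two (w ^ 2 ^ (j + j - 1)), ← pow_mul, ← pow_succ,
          show j + j - 1 + 1 = j + j by omega, ← h1]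
        exact mul_eq_one_comm.1 (hdd x)
      obtain ⟨r, hr, hre⟩ := hCroot (M - 1) (by omega) _ h3
      have e : d x = r ^ 2 ^ (M - 1) * (w⁻¹) ^ 2 ^ (j + j - 1) := by
        rw [hre, inv_pow, mul_inv_cancel_right]
      refine ⟨r ^ 2 ^ (M - 1 - (j + 1)) * (w⁻¹) ^ 2 ^ (j + j - 1 - (j + 1)),
        C.mul_mem (C.pow_mem hr _) (C.pow_mem (C.inv_mem hw) _), ?_⟩
      rw [e, (show Commute _ _ from hCcomm _ (C.pow_mem hr _) _ (C.pow_mem (C.inv_mem hw) _)).mul_pow,
        ← pow_mul, ← pow_mul, ← pow_add, ← pow_add, Nat.sub_add_cancel (by omega),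
        Nat.sub_add_cancel (by omega)]
  apply hzC
  refine Subgroup.mem_centralizer_iff.2 fun x hx => ?_
  obtain ⟨u, hu, hue⟩ := hCrt (m + 1) (by omega) x (hBC hx) (by
    rw [pow_succ', pow_mul, pow_two, hm _ (hBsq x hx)])
  obtain ⟨r, hr, hre⟩ := key (M - 1) (by omega) le_rfl ⟨u, hu⟩
  have hdx : d ⟨x, hBC hx⟩ = 1 := by
    have : (⟨x, hBC hx⟩ : C) = (⟨u, hu⟩ : C) ^ 2 ^ (M - (m + 1)) := Subtype.ext hue.symm
    obtain ⟨d', hd'⟩ := Nat.exists_eq_add_of_le (show M ≤ M - 1 + (M - (m + 1)) by omega)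
    rw [this, map_pow, hre, ← pow_mul, ← pow_add, hd', pow_add, pow_mul, hM r hr, one_pow]
  exact (mul_inv_eq_iff_eq_mul.1 (mul_inv_eq_one.1 hdx)).symm

end Setting

theorem center_sq_aux : ∀ (N : ℕ) (P : Type u) [Group P] [Finite P] (K : Type v) [CommGroup K]
    [MulDistribMulAction K P], Nat.card P = N → Setting P K → (∃ x y : P, x * y ≠ y * x) →
    ∀ z ∈ Subgroup.center P, z * z = 1 := by
  intro N
  induction N using Nat.strong_induction_on with
  | _ N ih =>
    intro P _ _ K _ _ hN h hna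
    refine h.center_sq_step (fun C hC hne hW hnaC z hz hzc => ?_) hna
    letI := subAction C hC
    have hlt : Nat.card C < N := hN ▸ lt_of_le_of_ne (Nat.le_of_dvd Nat.card_pos C.card_subgroup_dvd_card)
      fun e => hne (Subgroup.eq_top_of_card_eq C e)
    obtain ⟨a, ha, b, hb, hab⟩ := hnaC
    exact congrArg Subtype.val (ih _ hlt C K rfl (h.restrict hC hW)
      ⟨⟨a, ha⟩, ⟨b, hb⟩, fun e => hab (congrArg Subtype.val e)⟩ ⟨z, hz⟩
      (Subgroup.mem_center_iff.2 fun y => Subtype.ext (hzc y y.2)))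

/-- the centre is elementary abelian -/
theorem Setting.center_sq (h : Setting P K) (hna : ∃ x y : P, x * y ≠ y * x) :
    ∀ z ∈ Subgroup.center P, z * z = 1 := center_sq_aux _ P K rfl h hna

end CfsgLib.SuzukiTwo
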