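import Cfsg.Agent.Lib.SuzukiTwo.PartOne
import Cfsg.Agent.Lib.OddOrder.PuigSeries

/-!
Higman's theorem, second part: squares and commutators are central.
-/

set_option autoImplicit false

namespace CfsgLib.SuzukiTwo

open scoped commutatorElement

universe u v

variable {P : Type u} [Group P] [Finite P] {K : Type v} [CommGroup K] [MulDistribMulAction K P]

namespace Setting

variable (h : Setting P K)
include h

theorem auts_ne_one : ∃ k : K, k ≠ 1 := by
  obtain ⟨x, y, hxy, hx1, hxx, hy1, hyy⟩ := h.two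
  obtain ⟨k, hk, -⟩ := h.reg x y hx1 hxx hy1 hyy
  exact ⟨k, fun e => hxy (by rw [← hk, e, one_smul])⟩

/-- idempotent displacements: impossible -/
theorem false_of_idempotent {L : Type u} [Field L] [Finite L] {χ : K → L}
    (h2 : ∀ l : L, l + l = 0) (hχ : ∀ l : L, l ≠ 0 → ∃ k, χ k = l)
    {C : Subgroup P} (hCinv : ∀ k : K, ∀ x ∈ C, k • x ∈ C) (hCtop : C ≠ ⊤) (ε : P → L →+ L)
    (hεmul : ∀ a b x, ε (a * b) x = ε a x + ε b x) (hεker : ∀ z, (∀ x, ε z x = 0) → z ∈ C)
    (hεk : ∀ k z x, ε (k • z) (χ k * x) = χ k * ε z x)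
    (hid : ∀ z x, ε z (ε z x) = ε z x) : False := by
  classical
  haveI : Fintype P := Fintype.ofFinite P
  haveI : Fintype L := Fintype.ofFinite L
  have hcomm : ∀ a b x, ε a (ε b x) = ε b (ε a x) := by
    intro a b x
    have e := hid (a * b) x
    simp only [hεmul, map_add, hid] at e
    have e2 : ε a (ε b x) + ε b (ε a x) = 0 := by
      calc ε a (ε b x) + ε b (ε a x)
          = (ε a x + ε b x) + (ε a x + ε b x) + (ε a (ε b x) + ε b (ε a x)) := by rw [h2, zero_add]
        _ = (ε a x + ε a (ε b x) + (ε b (ε a x) + ε b x)) + (ε a x + ε b x) := by ring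
        _ = 0 := by rw [e, h2]
    calc ε a (ε b x) = ε a (ε b x) + (ε b (ε a x) + ε b (ε a x)) := by rw [h2, add_zero]
      _ = ε b (ε a x) := by rw [← add_assoc, e2, zero_add]
  obtain ⟨u0, hu0, hmax⟩ : ∃ u : L, u ≠ 0 ∧ ∀ w : L, w ≠ 0 →
      (Finset.univ.filter fun z => ε z w = 0).card ≤ (Finset.univ.filter fun z => ε z u = 0).card := by
    obtain ⟨u, hu, hmax⟩ := Finset.exists_max_image (Finset.univ.filter fun w : L => w ≠ 0)
      (fun w => (Finset.univ.filter fun z => ε z w = 0).card) ⟨1, by simp⟩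
    simp only [Finset.mem_filter, Finset.mem_univ, true_and] at hu hmax
    exact ⟨u, hu, hmax⟩
  have heig : ∀ z, ε z u0 = 0 ∨ ε z u0 = u0 := by
    intro z
    by_contra hc
    rw [not_or] at hc
    have hw : u0 + ε z u0 ≠ 0 := fun e => hc.2 (by
      calc ε z u0 = (u0 + u0) + ε z u0 := by rw [h2, zero_add]
        _ = u0 := by rw [add_assoc, e, add_zero])
    have hss : (Finset.univ.filter fun a => ε a u0 = 0) ⊂ (Finset.univ.filter fun a => ε a (u0 + ε z u0) = 0) := by
      rw [Finset.ssubset_iff_of_subset (fun a ha => ?_)]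
      · refine ⟨z, ?_, by simp [hc.1]⟩
        simp only [Finset.mem_filter, Finset.mem_univ, true_and, map_add, hid, h2]
      · simp only [Finset.mem_filter, Finset.mem_univ, true_and] at ha ⊢
        rw [map_add, hcomm, ha, map_zero, add_zero]
    exact absurd (Finset.card_lt_card hss) (not_lt.2 (hmax _ hw))
  have hall : ∀ z x, ε z x = 0 ∨ ε z x = x := by
    intro z x
    by_cases hx : x = 0
    · rw [hx, map_zero]; exact Or.inl rfl
    obtain ⟨k, hk⟩ := hχ (x / u0) (div_ne_zero hx hu0)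
    have e : ε z x = χ k * ε (k⁻¹ • z) u0 := by
      rw [← hεk, smul_inv_smul, hk, div_mul_cancel₀ _ hu0]
    rcases heig (k⁻¹ • z) with h' | h' <;> rw [h'] at e
    · left; rw [e, mul_zero]
    · right; rw [e, hk, div_mul_cancel₀ _ hu0]
  have hscal : ∀ z, z ∉ C → ∀ x, ε z x = x := by
    intro z hz x
    obtain ⟨x', hx'⟩ : ∃ x', ε z x' ≠ 0 := by
      by_contra hc
      push Not at hc
      exact hz (hεker z hc)
    have hx'e : ε z x' = x' := (hall z x').resolve_left hx'
    rcases hall z x with hx | hx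
    · rcases hall z (x + x') with hs | hs <;> rw [map_add, hx, hx'e, zero_add] at hs
      · exact absurd (hx'e.trans hs) hx'
      · rw [hx]
        calc (0 : L) = (x' + x') := (h2 x').symm
          _ = (x + x') + x' := by rw [← hs]
          _ = x := by rw [add_assoc, h2, add_zero]
    · exact hx
  obtain ⟨z, hz⟩ : ∃ z, z ∉ C := by
    by_contra hc
    push Not at hc
    exact hCtop (eq_top_iff.2 fun x _ => hc x)
  obtain ⟨k, hk⟩ := h.auts_ne_one
  refine hk (h.eq_one_of_coset hCinv hz (hεker _ fun x => ?_))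
  have hkz : k • z ∉ C := fun e => hz (by
    have := hCinv k⁻¹ _ e
    rwa [inv_smul_smul] at this)
  rw [hεmul, hscal z⁻¹ (fun e => hz (by simpa using C.inv_mem e)), hscal _ hkz, h2]

/-- squares and commutators are central -/
theorem sq_mem (hna : ∃ x y : P, x * y ≠ y * x) :
    (∀ x : P, x * x ∈ invols P) ∧ ∀ x y : P, ⁅x, y⁆ ∈ invols P := by
  classical
  have hZW : Subgroup.center P ≤ invols P := fun z hz => h.mem_invols.2 (h.center_sq hna z hz)
  have hWc := h.invols_le_center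
  have hred : (∀ x : P, x * x ∈ invols P) → (∀ x : P, x * x ∈ invols P) ∧ ∀ x y : P, ⁅x, y⁆ ∈ invols P :=
    fun hs => ⟨hs, fun x y => by
      rw [commutator_eq_sq_mul]
      exact (invols P).mul_mem ((invols P).mul_mem (hs x) (hs _)) (hs y⁻¹)⟩
  by_contra hgoal
  obtain ⟨x0, hx0⟩ : ∃ x : P, x * x ∉ invols P := by
    by_contra hc
    push Not at hc
    exact hgoal (hred hc)
  set W := invols P with hWdef
  haveI hWn : W.Normal := ⟨fun w hw g => by
    rw [Subgroup.mem_center_iff.1 (hWc hw) g, mul_inv_cancel_right]; exact hw⟩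
  let π := QuotientGroup.mk' W
  let B : Subgroup P := (Subgroup.center (P ⧸ W)).comap π
  have hmemB : ∀ x, x ∈ B ↔ ∀ y, ⁅x, y⁆ ∈ W := by
    intro x
    show π x ∈ Subgroup.center (P ⧸ W) ↔ _
    refine ⟨fun hc y => (QuotientGroup.eq_one_iff _).1 ?_, fun hc => Subgroup.mem_center_iff.2 fun z => ?_⟩
    · show π ⁅x, y⁆ = 1
      rw [map_commutatorElement, commutatorElement_eq_one_iff_mul_comm]
      exact (Subgroup.mem_center_iff.1 hc (π y)).symm
    · obtain ⟨y, rfl⟩ := QuotientGroup.mk'_surjective W z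
      refine (commutatorElement_eq_one_iff_mul_comm.1 ?_).symm
      rw [← map_commutatorElement]
      exact (QuotientGroup.eq_one_iff _).2 (hc y)
  have hBcm : ∀ x ∈ B, ∀ y : P, ⁅x, y⁆ ∈ W := fun x hx => (hmemB x).1 hx
  have hBcm' : ∀ x ∈ B, ∀ y : P, ⁅y, x⁆ ∈ W := fun x hx y => by
    rw [← commutatorElement_inv]; exact W.inv_mem (hBcm x hx y)
  have hBsq : ∀ x ∈ B, x * x ∈ W := fun x hx => hZW (Subgroup.mem_center_iff.2 fun y => by
    have h1 := CfsgLib.PGroup.commutatorElement_pow_left_of_central (hWc (hBcm x hx y)) 2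
    rw [pow_two, pow_two, h.mem_invols.1 (hBcm x hx y)] at h1
    exact (commutatorElement_eq_one_iff_mul_comm.1 h1).symm)
  have hsqB : ∀ x ∈ B, ∀ y : P, x * (y * y) = y * y * x := fun x hx y => by
    rw [← commutatorElement_eq_one_iff_mul_comm,
      CfsgLib.PGroup.commutatorElement_mul_right_of_central _ _ _ (hWc (hBcm x hx y)),
      h.mem_invols.1 (hBcm x hx y)]
  have hWB : W ≤ B := fun w hw => (hmemB w).2 fun y => by
    rw [commutatorElement_eq_one_iff_mul_comm.2 ((Subgroup.mem_center_iff.1 (hWc hw)) y).symm]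
    exact W.one_mem
  have hBinv : ∀ k : K, ∀ x ∈ B, k • x ∈ B := fun k x hx => (hmemB _).2 fun y => by
    have e : ⁅k • x, y⁆ = k • ⁅x, k⁻¹ • y⁆ := by rw [smul_comm_elt, smul_inv_smul]
    rw [e]; exact h.smul_mem_invols k (hBcm x hx _)
  -- the subgroup of squares
  let F : Subgroup P := Subgroup.closure (Set.range fun y => y * y)
  have hFn : ∀ g : P, ∀ x ∈ F, g * x * g⁻¹ ∈ F := by
    intro g x hx
    induction hx using Subgroup.closure_induction with
    | mem y hy =>
      obtain ⟨y, rfl⟩ := hy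
      exact Subgroup.subset_closure ⟨g * y * g⁻¹, by simp only; group⟩
    | one => simp
    | mul a b _ _ ha hb =>
      have : g * (a * b) * g⁻¹ = (g * a * g⁻¹) * (g * b * g⁻¹) := by group
      rw [this]; exact mul_mem ha hb
    | inv a _ ha =>
      have : g * a⁻¹ * g⁻¹ = (g * a * g⁻¹)⁻¹ := by group
      rw [this]; exact inv_mem ha
  have hFinv : ∀ k : K, ∀ x ∈ F, k • x ∈ F := by
    intro k x hx
    induction hx using Subgroup.closure_induction with
    | mem y hy =>
      obtain ⟨y, rfl⟩ := hy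
      exact Subgroup.subset_closure ⟨k • y, by simp only [smul_mul']⟩
    | one => simp
    | mul a b _ _ ha hb => rw [smul_mul']; exact mul_mem ha hb
    | inv a _ ha => rw [smul_inv']; exact inv_mem ha
  have hFB : ∀ f ∈ F, ∀ x ∈ B, x * f = f * x := by
    intro f hf x hx
    have : F ≤ Subgroup.centralizer ({x} : Set P) := (Subgroup.closure_le _).2 (by
      rintro _ ⟨y, rfl⟩
      exact Subgroup.mem_centralizer_singleton_iff.2 (hsqB x hx y).symm)
    exact (Subgroup.mem_centralizer_singleton_iff.1 (this hf)).symm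
  obtain ⟨f, hfF, hfB, hfW⟩ : ∃ f, f ∈ F ∧ f ∈ B ∧ f ∉ W := by
    haveI : Fact (Nat.Prime 2) := ⟨Nat.prime_two⟩
    haveI : Group.IsNilpotent (P ⧸ W) := (h.isTwo.to_quotient W).isNilpotent
    haveI hFq : (F.map π).Normal := by
      refine Subgroup.Normal.map ⟨fun x hx g => hFn g x hx⟩ π (QuotientGroup.mk'_surjective W)
    have hne : F.map π ≠ ⊥ := fun e => hx0 (by
      have : π (x0 * x0) ∈ F.map π := ⟨_, Subgroup.subset_closure ⟨x0, rfl⟩, rfl⟩
      rw [e, Subgroup.mem_bot] at this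
      exact (QuotientGroup.eq_one_iff _).1 this)
    obtain ⟨⟨z, hz⟩, hz1'⟩ := Subgroup.ne_bot_iff_exists_ne_one.1 (OddOrder.PuigSeries.inf_center_ne_bot (F.map π) hne)
    have hz1 : z ≠ 1 := fun e => hz1' (Subtype.ext e)
    obtain ⟨f, hf, rfl⟩ := hz.2
    exact ⟨f, hf, hz.1, fun e => hz1 ((QuotientGroup.eq_one_iff f).2 e)⟩
  let C := Subgroup.centralizer ((F ⊓ B : Subgroup P) : Set P)
  have hBC : B ≤ C := fun x hx => Subgroup.mem_centralizer_iff.2 fun d hd => (hFB d hd.1 x hx).symm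
  have hCinv : ∀ k : K, ∀ z ∈ C, k • z ∈ C := fun k z hz => Subgroup.mem_centralizer_iff.2 fun x hx => by
    calc x * k • z = k • (k⁻¹ • x * z) := by rw [smul_mul', smul_inv_smul]
      _ = k • (z * k⁻¹ • x) := by
          rw [Subgroup.mem_centralizer_iff.1 hz _ (⟨hFinv k⁻¹ x hx.1, hBinv k⁻¹ x hx.2⟩ : k⁻¹ • x ∈ F ⊓ B)]
      _ = _ := by rw [smul_mul', smul_inv_smul]
  have hCtop : C ≠ ⊤ := fun e => hfW (hZW (Subgroup.mem_center_iff.2 fun g =>
    (Subgroup.mem_centralizer_iff.1 (e ▸ Subgroup.mem_top g : g ∈ C) f ⟨hfF, hfB⟩).symm))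
  have hCcomm : ∀ a ∈ C, ∀ b ∈ C, a * b = b * a := by
    by_contra hc
    push Not at hc
    obtain ⟨a, ha, b, hb, hab⟩ := hc
    letI := subAction C hCinv
    have hres := h.restrict hCinv (hWB.trans hBC)
    have := hres.center_sq ⟨⟨a, ha⟩, ⟨b, hb⟩, fun e => hab (congrArg Subtype.val e)⟩ ⟨f, hBC hfB⟩
      (Subgroup.mem_center_iff.2 fun y => Subtype.ext
        ((Subgroup.mem_centralizer_iff.1 y.2 f ⟨hfF, hfB⟩).symm))
    exact hfW (h.mem_invols.2 (congrArg Subtype.val this))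
  obtain ⟨L, hF, hfin, e, χ, he, hadd, hW, hact, hχ, h2, hL2⟩ := h.exists_coord
  have hBcomm : ∀ x ∈ B, ∀ y ∈ B, x * y = y * x := fun x hx y hy => hCcomm x (hBC hx) y (hBC hy)
  let sq : B →* P :=
    { toFun := fun x => (x : P) * x
      map_one' := one_mul 1
      map_mul' := fun a b => (show Commute (b : P) a from hBcomm b b.2 a a.2).mul_mul_mul_comm (a : P) b }
  have hsurjB : ∀ w ∈ W, ∃ x ∈ B, x * x = w := by
    intro w hw
    obtain ⟨⟨x, hx⟩, hxw⟩ := h.invols_le (S := sq.range) (fun k z hz => by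
      obtain ⟨⟨x, hx⟩, rfl⟩ := hz
      exact ⟨⟨k • x, hBinv k x hx⟩, (smul_mul' k x x).symm⟩) (fun e => hfW (h.mem_invols.2 (by
        have : sq ⟨f, hfB⟩ ∈ sq.range := ⟨_, rfl⟩
        rw [e, Subgroup.mem_bot] at this
        exact this))) hw
    exact ⟨x, hx, hxw⟩
  choose sB hsB hsBe using fun l : L => hsurjB (e l) ((hW _).2 ⟨l, rfl⟩)
  have hCB : ∀ z, (∀ x ∈ B, x * z = z * x) → z ∈ C := fun z hz =>
    Subgroup.mem_centralizer_iff.2 fun d hd => hz d hd.2
  have hcongr : ∀ x ∈ B, ∀ l, x * x = e l → ∃ w ∈ W, x = sB l * w := by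
    intro x hx l hl
    refine ⟨(sB l)⁻¹ * x, h.mem_invols.2 ?_, by group⟩
    rw [(show Commute x (sB l)⁻¹ from hBcomm x hx _ (B.inv_mem (hsB l))).mul_mul_mul_comm,
      ← mul_inv_rev, hsBe, hl, inv_mul_cancel]
  -- the displacement pairing
  choose ec hec using fun (z : P) (l : L) => (hW _).1 (hBcm' _ (hsB l) z)
  have hcW : ∀ z : P, ∀ x ∈ B, ∀ l, x * x = e l → ⁅z, x⁆ = e (ec z l) := by
    intro z x hx l hl
    obtain ⟨w, hw, rfl⟩ := hcongr x hx l hl
    have h1 : ⁅z, w⁆ = 1 := commutatorElement_eq_one_iff_mul_comm.2 (Subgroup.mem_center_iff.1 (hWc hw) z)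
    rw [CfsgLib.PGroup.commutatorElement_mul_right_of_central _ _ _ (h1 ▸ one_mem _), h1, mul_one, hec]
  let ε : P → L →+ L := fun z => AddMonoidHom.mk' (ec z) fun a b => he (by
    rw [← hcW z _ (B.mul_mem (hsB a) (hsB b)) (a + b) (by
        rw [(show Commute (sB b) (sB a) from hBcomm _ (hsB b) _ (hsB a)).mul_mul_mul_comm (sB a) (sB b),
          hsBe, hsBe, hadd]),
      CfsgLib.PGroup.commutatorElement_mul_right_of_central _ _ _ (hWc (hBcm' _ (hsB b) z)), hadd, hec, hec])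
  have hεmul : ∀ a b x, ε (a * b) x = ε a x + ε b x := fun a b x => he (by
    show e (ec (a * b) x) = e (ec a x + ec b x)
    rw [hadd, hec, hec, hec,
      CfsgLib.PGroup.commutatorElement_mul_left_of_central _ _ _ (hWc (hBcm' _ (hsB x) b))])
  have he0 : e 0 = 1 := by
    have := hadd 0 0
    rw [add_zero] at this
    exact left_eq_mul.1 this
  have hεker : ∀ z, (∀ x, ε z x = 0) → z ∈ C := fun z hz => hCB z fun x hx => by
    obtain ⟨l, hl⟩ := (hW _).1 (hBsq x hx)
    exact (commutatorElement_eq_one_iff_mul_comm.1 (by rw [hcW z x hx l hl.symm, show ec z l = 0 from hz l, he0])).symm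
  have hεk : ∀ k z x, ε (k • z) (χ k * x) = χ k * ε z x := fun k z x => he (by
    show e (ec (k • z) (χ k * x)) = e (χ k * ec z x)
    rw [← hact, hec z x, smul_comm_elt,
      hcW (k • z) _ (hBinv k _ (hsB x)) (χ k * x) (by rw [← smul_mul', hsBe, hact])])
  obtain ⟨M, hM, hroot⟩ := h.exists_exponent (A := C) hCinv
  have hCrt := h.exists_root (A := C) hCcomm hroot
  have hM2 : 2 ≤ M := by
    by_contra hlt
    obtain ⟨d, hd⟩ := Nat.exists_eq_add_of_le (show M ≤ 1 by omega)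
    have := congrArg (· ^ 2 ^ d) (hM f (hBC hfB))
    simp only [one_pow, ← pow_mul, ← pow_add, ← hd, pow_one] at this
    exact hfW (h.mem_invols.2 (by rwa [pow_two] at this))
  have hC4 : ∀ c ∈ C, c ^ 4 = 1 → c ∈ B := by
    intro c hc hc4
    obtain ⟨b, hb, hbe⟩ := hsurjB (c * c) (h.mem_invols.2 (by rw [← hc4]; simp only [pow_succ, pow_zero, one_mul, mul_assoc]))
    have h1 : c * b⁻¹ ∈ W := h.mem_invols.2 (by
      rw [(show Commute b⁻¹ c from hCcomm _ (C.inv_mem (hBC hb)) c hc).mul_mul_mul_comm c b⁻¹, ← mul_inv_rev,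
        hbe, mul_inv_cancel])
    simpa using B.mul_mem (hWB h1) hb
  have hCn : ∀ g : P, ∀ x ∈ C, g * x * g⁻¹ ∈ C := fun g x hx => Subgroup.mem_centralizer_iff.2 fun d hd => by
    have hd1 : g⁻¹ * d * g ∈ F ⊓ B := ⟨by simpa using hFn g⁻¹ d hd.1, by
      have : g⁻¹ * d * g = ⁅g⁻¹, d⁆ * d := by rw [commutatorElement_def]; group
      rw [this]; exact B.mul_mem (hWB (hBcm' d hd.2 _)) hd.2⟩
    calc d * (g * x * g⁻¹) = g * (g⁻¹ * d * g * x) * g⁻¹ := by group
      _ = g * (x * (g⁻¹ * d * g)) * g⁻¹ := by rw [Subgroup.mem_centralizer_iff.1 hx _ hd1]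
      _ = _ := by group
  have hsqC : ∀ y, y * y ∈ C := fun y => hCB _ fun x hx => hsqB x hx y
  rcases Nat.lt_or_ge 2 M with hM3 | hM3
  · -- large exponent: idempotents
    refine h.false_of_idempotent h2 hχ hCinv hCtop ε hεmul hεker hεk fun z u => ?_
    obtain ⟨x, hx, hxe⟩ := hroot (M - 1) (by omega) _ ((hW (e u)).2 ⟨u, rfl⟩)
    let d : C →* P :=
      { toFun := fun x => ⁅z, (x : P)⁆
        map_one' := commutatorElement_one_right z
        map_mul' := fun a b => by
          have hdb : ⁅z, (b : P)⁆ ∈ C := C.mul_mem (hCn z b b.2) (C.inv_mem b.2)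
          calc ⁅z, (a : P) * b⁆ = ⁅z, (a : P)⁆ * ((a : P) * ⁅z, (b : P)⁆ * (a : P)⁻¹) := by
                simp only [commutatorElement_def]; group
            _ = _ := by rw [hCcomm _ a.2 _ hdb, mul_inv_cancel_right] }
    have hdC : ∀ x : C, d x ∈ C := fun x => C.mul_mem (hCn z x x.2) (C.inv_mem x.2)
    have hpowB : ∀ y ∈ C, y ^ 2 ^ (M - 2) ∈ B := fun y hy => hC4 _ (C.pow_mem hy _) (by
      rw [← pow_mul, show (4 : ℕ) = 2 ^ 2 by norm_num, ← pow_add, Nat.sub_add_cancel hM2, hM y hy])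
    have hsq' : ∀ y : P, y ^ 2 ^ (M - 2) * y ^ 2 ^ (M - 2) = y ^ 2 ^ (M - 1) := fun y => by
      rw [← pow_two, ← pow_mul, ← pow_succ, show M - 2 + 1 = M - 1 by omega]
    have hdpow : ∀ (y : P) (hy : y ∈ C) (n : ℕ), ⁅z, y ^ n⁆ = ⁅z, y⁆ ^ n := fun y hy n =>
      map_pow d ⟨y, hy⟩ n
    obtain ⟨v, hv, hve⟩ := hCrt (M - 1) (Nat.sub_le _ _) (d ⟨x, hx⟩) (hdC _) (by
      show ⁅z, x⁆ ^ 2 ^ (M - 1) = 1
      rw [← hdpow x hx, hxe]
      exact commutatorElement_eq_one_iff_mul_comm.2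
        (Subgroup.mem_center_iff.1 (hWc ((hW _).2 ⟨u, rfl⟩)) z))
    rw [show M - (M - 1) = 1 by omega, pow_one] at hve
    have hveq : v ^ 2 = ⁅z, x⁆ := hve
    have e1 : v ^ 2 ^ (M - 1) = e (ec z u) := by
      rw [← hcW z _ (hpowB x hx) u (by rw [hsq', hxe]), hdpow x hx, ← hveq, ← pow_mul, ← pow_succ',
        show M - 2 + 1 = M - 1 by omega]
    have hdd : d ⟨d ⟨x, hx⟩, hdC _⟩ * (d ⟨x, hx⟩ * d ⟨x, hx⟩) = 1 := by
      have h1 : z * z * x * (z * z)⁻¹ = x := by
        rw [hCcomm (z * z) (hsqC z) x hx, mul_inv_cancel_right]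
      show ⁅z, ⁅z, x⁆⁆ * (⁅z, x⁆ * ⁅z, x⁆) = 1
      calc ⁅z, ⁅z, x⁆⁆ * (⁅z, x⁆ * ⁅z, x⁆) = z * z * x * (z * z)⁻¹ * x⁻¹ := by
            simp only [commutatorElement_def]; group
        _ = 1 := by rw [h1, mul_inv_cancel]
    have hdd' : ⁅z, v⁆ ^ 2 * (v ^ 2 * v ^ 2) = 1 := by
      rw [← hdpow v hv, hveq]; exact hdd
    have hdvC : ⁅z, v⁆ ∈ C := hdC ⟨v, hv⟩
    have hw : ⁅z, v⁆ * v ^ 2 ∈ W := h.mem_invols.2 (by
      rw [(show Commute (v ^ 2) ⁅z, v⁆ from hCcomm _ (C.pow_mem hv 2) _ hdvC).mul_mul_mul_comm,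
        ← pow_two, hdd'])
    obtain ⟨r, hr, hre⟩ := hroot (M - 1) (by omega) _ hw
    have e2 : e (ec z (ec z u)) = v ^ 2 ^ (M - 1) := by
      rw [← hcW z _ (hpowB v hv) (ec z u) (by rw [hsq', e1]), hdpow v hv,
        show ⁅z, v⁆ = r ^ 2 ^ (M - 1) * (v ^ 2)⁻¹ by rw [hre, mul_inv_cancel_right],
        (show Commute _ _ from hCcomm _ (C.pow_mem hr _) _ (C.inv_mem (C.pow_mem hv 2))).mul_pow,
        ← pow_mul, ← pow_add, inv_pow, ← pow_mul, ← pow_succ', show M - 2 + 1 = M - 1 by omega]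
      obtain ⟨d', hd'⟩ := Nat.exists_eq_add_of_le (show M ≤ M - 1 + (M - 2) by omega)
      rw [hd', pow_add, pow_mul, hM r hr, one_pow, one_mul]
      refine inv_eq_of_mul_eq_one_right ?_
      rw [e1]
      exact h.mem_invols.1 ((hW _).2 ⟨_, rfl⟩)
    exact he (e2.trans e1)
  -- exponent four
  have hCleB : C ≤ B := fun c hc => hC4 c hc (by
    obtain ⟨d, hd⟩ := Nat.exists_eq_add_of_le (show M ≤ 2 by omega)
    have := congrArg (· ^ 2 ^ d) (hM c hc)
    simp only [one_pow, ← pow_mul, ← pow_add, ← hd] at this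
    exact this)
  have hsq_mem : ∀ y, y * y ∈ B := fun y => hCleB (hsqC y)
  have hcom_mem : ∀ y z : P, ⁅y, z⁆ ∈ B := fun y z => by
    rw [commutator_eq_sq_mul]
    exact B.mul_mem (B.mul_mem (hsq_mem y) (hsq_mem _)) (hsq_mem z⁻¹)
  choose q hq using fun y : P => (hW _).1 (hBsq _ (hsq_mem y))
  choose bb hbb using fun (y z : P) => (hW _).1 (hBsq _ (hcom_mem y z))
  have hεq : ∀ z y : P, e (ε z (q y)) = ⁅z, y * y⁆ := fun z y => (hcW z _ (hsq_mem y) _ (hq y).symm).symm
  have hqself : ∀ y, ε y (q y) = 0 := fun y => he (by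
    rw [hεq, he0, commutatorElement_eq_one_iff_mul_comm]; group)
  have hkey : ∀ y z : P, ε z (q y) = bb y z + ε y (bb y z) := fun y z => he (by
    rw [hadd, hεq, hbb, show e (ε y (bb y z)) = ⁅y, ⁅y, z⁆⁆ from (hcW y _ (hcom_mem y z) _ (hbb y z).symm).symm,
      ← commutatorElement_inv, inv_eq_of_mul_eq_one_right (h.mem_invols.1 (hBcm _ (hsq_mem y) z))]
    have h1 : ⁅y * y, z⁆ = ⁅y, ⁅y, z⁆⁆ * (⁅y, z⁆ * ⁅y, z⁆) := by
      simp only [commutatorElement_def]; group
    rw [h1]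
    exact ((Subgroup.mem_center_iff.1 (hWc (hBcm' _ (hcom_mem y z) y))) _).symm)
  have hconjsq : ∀ g : P, ∀ x ∈ B, g * x * g⁻¹ * (g * x * g⁻¹) = x * x := fun g x hx => by
    calc g * x * g⁻¹ * (g * x * g⁻¹) = g * (x * x) * g⁻¹ := by group
      _ = x * x := by rw [Subgroup.mem_center_iff.1 (hWc (hBsq x hx)) g, mul_inv_cancel_right]
  have hBmulsq : ∀ a ∈ B, ∀ b ∈ B, a * b * (a * b) = a * a * (b * b) := fun a ha b hb =>
    (show Commute b a from hBcomm b hb a ha).mul_mul_mul_comm a b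
  have hgc : ∀ g : P, ∀ x ∈ B, g * x * g⁻¹ ∈ B := fun g x hx => by
    have : g * x * g⁻¹ = ⁅g, x⁆ * x := by rw [commutatorElement_def]; group
    rw [this]; exact B.mul_mem (hWB (hBcm' x hx g)) hx
  have hbbl : ∀ y y' z, bb (y * y') z = bb y z + bb y' z := fun y y' z => he (by
    rw [hadd, hbb, hbb, hbb, show ⁅y * y', z⁆ = y * ⁅y', z⁆ * y⁻¹ * ⁅y, z⁆ by
      simp only [commutatorElement_def]; group, hBmulsq _ (hgc y _ (hcom_mem y' z)) _ (hcom_mem y z),
      hconjsq y _ (hcom_mem y' z)]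
    exact Subgroup.mem_center_iff.1 (hWc (hBsq _ (hcom_mem y z))) _)
  have hbbr : ∀ y z z', bb y (z * z') = bb y z + bb y z' := fun y z z' => he (by
    rw [hadd, hbb, hbb, hbb, show ⁅y, z * z'⁆ = ⁅y, z⁆ * (z * ⁅y, z'⁆ * z⁻¹) by
      simp only [commutatorElement_def]; group, hBmulsq _ (hcom_mem y z) _ (hgc z _ (hcom_mem y z')),
      hconjsq z _ (hcom_mem y z')])
  have hbbB : ∀ b ∈ B, ∀ z, bb b z = 0 := fun b hb z => he (by
    rw [hbb, he0]; exact h.mem_invols.1 (hBcm b hb z))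
  have hbbk : ∀ k y z, bb (k • y) (k • z) = χ k * bb y z := fun k y z => he (by
    rw [← hact, hbb, hbb, smul_mul', smul_comm_elt])
  have hbsym : ∀ y z, bb y z = bb z y := fun y z => he (by
    rw [hbb, hbb, ← commutatorElement_inv z y, ← mul_inv_rev]
    exact inv_eq_of_mul_eq_one_right (h.mem_invols.1 (hBsq _ (hcom_mem z y))))
  haveI : Finite (L ≃+* L) :=
    Finite.of_injective (fun s : L ≃+* L => (s : L → L)) DFunLike.coe_injective
  letI : Fintype (L ≃+* L) := Fintype.ofFinite _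
  let S : AddSubgroup ((L ≃+* L) → L) :=
    { carrier := {α | ∃ z, ∀ x, ε z x = ∑ σ, α σ * σ x}
      zero_mem' := ⟨1, fun x => by
        have e0 : ε (1 * 1) x = ε 1 x + ε 1 x := hεmul 1 1 x
        rw [one_mul, h2] at e0
        simp [e0]⟩
      add_mem' := fun {α β} ⟨z, hz⟩ ⟨w, hw⟩ => ⟨z * w, fun x => by
        simp [hεmul, hz, hw, add_mul, Finset.sum_add_distrib]⟩
      neg_mem' := fun {α} ⟨z, hz⟩ => ⟨z, fun x => by
        have : -α = α := funext fun σ => by
          show -α σ = α σ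
          exact neg_eq_of_add_eq_zero_left (h2 _)
        rw [this]; exact hz x⟩ }
  have hχ1 : χ 1 = 1 := he (by
    have := hact 1 1
    rw [one_smul, mul_one] at this
    exact this.symm)
  have hscale : ∀ (k : K) (z : P) (α : (L ≃+* L) → L), χ k ≠ 0 → (∀ x, ε z x = ∑ σ, α σ * σ x) →
      ∀ x, ε (k • z) x = ∑ σ, (χ k / σ (χ k) * α σ) * σ x := by
    intro k z α hk hz x
    have := hεk k z (x / χ k)
    rw [mul_div_cancel₀ _ hk] at this
    rw [this, hz, Finset.mul_sum]
    refine Finset.sum_congr rfl fun σ _ => ?_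
    rw [map_div₀]
    ring
  have hCne : ∃ z, z ∉ C := by
    by_contra hc
    push Not at hc
    exact hCtop (eq_top_iff.2 fun x _ => hc x)
  obtain ⟨β, -, -, hY⟩ := exists_monomial h2 hL2 S (fun eS => by
      obtain ⟨z, hz⟩ := hCne
      obtain ⟨α, hα⟩ := exists_expansion h2 (ε z)
      refine hz (hεker z fun x => ?_)
      have : α ∈ (⊥ : AddSubgroup ((L ≃+* L) → L)) := eS ▸ ⟨z, hα⟩
      rw [AddSubgroup.mem_bot] at this
      simp [hα, this])
    (fun l hl α hα => by
      obtain ⟨z, hz⟩ := hα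
      obtain ⟨k, rfl⟩ := hχ l hl
      exact ⟨k • z, hscale k z α hl hz⟩)
    (fun l hl α hα hα0 heq => by
      obtain ⟨z, hz⟩ := hα
      obtain ⟨k, rfl⟩ := hχ l hl
      have hzC : z ∉ C := fun hzC => hα0 (eq_zero_of_sum_eq_zero α fun x => by
        rw [← hz]
        refine he ?_
        show e (ec z x) = e 0
        rw [he0, hec]
        exact commutatorElement_eq_one_iff_mul_comm.2 (hCcomm z hzC _ (hBC (hsB x))))
      rw [h.eq_one_of_coset hCinv hzC (k := k) (hεker _ fun x => by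
        have ez : ε z⁻¹ x = ε z x := by
          have e0 : ε (z⁻¹ * z) x = ε z⁻¹ x + ε z x := hεmul _ _ x
          rw [inv_mul_cancel, show ε 1 x = 0 from he (by
            show e (ec 1 x) = e 0
            rw [he0, hec, commutatorElement_one_left])] at e0
          exact (neg_eq_of_add_eq_zero_left e0.symm).symm.trans (neg_eq_of_add_eq_zero_left (h2 _))
        rw [hεmul, ez, hscale k z α hl hz x,
          show ∑ σ, χ k / σ (χ k) * α σ * σ x = ∑ σ, α σ * σ x from
            Finset.sum_congr rfl fun σ _ => congrArg (· * σ x) (congrFun heq σ), ← hz, h2]), hχ1])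
  choose Y hY' using hY
  have hYe : ∀ l x, ε (Y l) x = l * β x := fun l x => by
    rw [hY' l x]; simp
  have hYC : ∀ l z, (∀ x, ε z x = l * β x) → (Y l)⁻¹ * z ∈ B := fun l z hz => hCleB (hεker _ fun x => by
    have e0 : ε z x = ε (Y l) x + ε ((Y l)⁻¹ * z) x := by
      rw [← hεmul]; congr 2; group
    rw [hz, hYe] at e0
    exact left_eq_add.1 e0)
  have hqY : ∀ l, l ≠ 0 → q (Y l) = 0 := fun l hl => by
    have := hqself (Y l)
    rw [hYe, mul_eq_zero, or_iff_right hl] at this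
    exact β.injective (this.trans (map_zero β).symm)
  have hνcong : ∀ z l y, (∀ x, ε y x = l * β x) → bb y z = bb (Y l) z := fun z l y hy => by
    have e0 := hbbl (Y l) ((Y l)⁻¹ * y) z
    rwa [hbbB _ (hYC l y hy) z, add_zero, mul_inv_cancel_left] at e0
  have hνadd : ∀ z a b, bb (Y (a + b)) z = bb (Y a) z + bb (Y b) z := fun z a b => by
    rw [← hνcong z (a + b) (Y a * Y b) (fun x => by rw [hεmul, hYe, hYe, add_mul]), hbbl]
  have hfixν : ∀ z l, l * β (bb (Y l) z) = bb (Y l) z := by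
    intro z l
    by_cases hl : l = 0
    · have h0 : bb (Y l) z = 0 := by
        have := hνadd z 0 0
        rw [add_zero, h2] at this
        rw [hl]
        exact this
      rw [h0, map_zero, mul_zero]
    have e0 := hkey (Y l) z
    rw [hqY l hl, map_zero, hYe] at e0
    calc l * β (bb (Y l) z) = (bb (Y l) z + bb (Y l) z) + l * β (bb (Y l) z) := by rw [h2, zero_add]
      _ = _ := by rw [add_assoc, ← e0, add_zero]
  have hν1 : ∀ z, (∀ l, bb (Y l) z = 0) ∨ bb (Y 1) z = 1 := by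
    intro z
    by_cases hz0 : ∀ l, bb (Y l) z = 0
    · exact Or.inl hz0
    push Not at hz0
    obtain ⟨l1, hl1⟩ := hz0
    let ν : L →+ L := AddMonoidHom.mk' (fun l => bb (Y l) z) (hνadd z)
    have hinj : Function.Injective ν := by
      rw [injective_iff_map_eq_zero]
      intro κ hκ
      by_contra hκ0
      have h1 := hfixν z (l1 + κ)
      rw [hνadd, show bb (Y κ) z = 0 from hκ, add_zero, add_mul, hfixν z l1, add_eq_left,
        mul_eq_zero, or_iff_right hκ0] at h1
      exact hl1 (β.injective (h1.trans (map_zero β).symm))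
    right
    set u := ν 1 with hu
    have hu0 : u ≠ 0 := fun e0 => one_ne_zero (hinj (e0.trans (map_zero ν).symm))
    have hβu : β u = u := by
      have := hfixν z 1
      rwa [one_mul] at this
    choose g hg using fun x : L => Finite.surjective_of_injective hinj (x * u)
    refine (fixed_eq_of_additive_quotient h2 β g
      (fun a b => hinj (by rw [map_add, hg, hg, hg, add_mul])) (fun x => ?_) hβu).resolve_left hu0
    have := hfixν z (g x)
    rw [show bb (Y (g x)) z = x * u from hg x, map_mul, hβu, ← mul_assoc] at this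
    rw [mul_comm]
    exact (mul_right_cancel₀ hu0 this).symm
  let Zk : Subgroup P :=
    { carrier := {z | ∀ l, bb (Y l) z = 0}
      one_mem' := fun l => by rw [hbsym]; exact hbbB 1 B.one_mem _
      mul_mem' := fun {a b} ha hb l => by rw [hbbr, ha, hb, add_zero]
      inv_mem' := fun {a} ha l => by
        have := hbbr (Y l) a a⁻¹
        rw [mul_inv_cancel, ha, zero_add, hbsym, hbbB 1 B.one_mem] at this
        exact this.symm }
  have hZkinv : ∀ k : K, ∀ z ∈ Zk, k • z ∈ Zk := by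
    intro k z hz l
    have hk : χ k ≠ 0 := fun e0 => by
      obtain ⟨u, hu⟩ : ∃ u : L, u ≠ 0 := ⟨1, one_ne_zero⟩
      have h1 : k • e u = k • e 0 := by rw [hact, hact, e0, zero_mul, zero_mul]
      exact hu (he (MulAction.injective k h1))
    have hz' := hνcong z (l * β (χ k) / χ k) (k⁻¹ • Y l) (fun x => by
      have := hεk k (k⁻¹ • Y l) x
      rw [smul_inv_smul, hYe, map_mul] at this
      field_simp
      linear_combination -this)
    have := hbbk k (k⁻¹ • Y l) z
    rw [smul_inv_smul, hz', hz, mul_zero] at this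
    exact this
  have hZk : ∀ z, z ∈ Zk := by
    by_contra hc
    push Not at hc
    obtain ⟨z, hz⟩ := hc
    obtain ⟨k, hk⟩ := h.auts_ne_one
    apply hk
    refine h.eq_one_of_coset hZkinv hz ((hν1 _).resolve_right fun h1 => ?_)
    have hz1 := (hν1 z).resolve_left hz
    have hkz : k • z ∉ Zk := fun e0 => hz (by simpa using hZkinv k⁻¹ _ e0)
    have hkz1 := (hν1 (k • z)).resolve_left hkz
    have hzi : bb (Y 1) z⁻¹ = 1 := by
      have := hbbr (Y 1) z z⁻¹
      rw [mul_inv_cancel, hz1, hbsym, hbbB 1 B.one_mem] at this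
      exact (neg_eq_of_add_eq_zero_right this.symm).symm.trans (neg_eq_of_add_eq_zero_left (h2 _))
    rw [hbbr, hzi, hkz1, h2] at h1
    exact zero_ne_one h1
  refine hx0 (h.mem_invols.2 ?_)
  have := hkey x0 (Y 1)
  rw [hbsym x0 (Y 1), hZk x0 1, map_zero, add_zero, hYe, one_mul] at this
  rw [← hq, β.injective (this.trans (map_zero β).symm), he0]

end Setting

end CfsgLib.SuzukiTwo
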