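import Cfsg.Agent.Lib.SuzukiTwo.Field
import Cfsg.Agent.Lib.PGroup.Class2

/-!
Finite 2-groups with an abelian automorphism group regular on the involutions: general properties,
and homocyclicity of the invariant abelian subgroups.
-/

set_option autoImplicit false

namespace CfsgLib.SuzukiTwo

open scoped commutatorElement

universe u v

/-- the setting of Higman's theorem (commutativity not excluded) -/
structure Setting (P : Type u) [Group P] [Finite P] (K : Type v) [CommGroup K]
    [MulDistribMulAction K P] : Prop where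
  isTwo : IsPGroup 2 P
  two : ∃ x y : P, x ≠ y ∧ x ≠ 1 ∧ x * x = 1 ∧ y ≠ 1 ∧ y * y = 1
  reg : ∀ x y : P, x ≠ 1 → x * x = 1 → y ≠ 1 → y * y = 1 → ∃! k : K, k • x = y

/-- the subgroup generated by the involutions -/
def invols (P : Type u) [Group P] : Subgroup P := Subgroup.closure {x | x * x = 1}

variable {P : Type u} [Group P] [Finite P] {K : Type v} [CommGroup K] [MulDistribMulAction K P]

omit [Finite P] in
theorem smul_comm_elt (k : K) (x y : P) : k • ⁅x, y⁆ = ⁅k • x, k • y⁆ := by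
  simp [commutatorElement_def, smul_mul', smul_inv']

omit [Finite P] in
theorem smul_mem_center (k : K) {x : P} (hx : x ∈ Subgroup.center P) : k • x ∈ Subgroup.center P := by
  rw [Subgroup.mem_center_iff] at *
  intro g
  calc g * k • x = k • (k⁻¹ • g * x) := by rw [smul_mul', smul_inv_smul]
    _ = k • (x * k⁻¹ • g) := by rw [hx]
    _ = _ := by rw [smul_mul', smul_inv_smul]

theorem exists_invol_mem (h2 : IsPGroup 2 P) {S : Subgroup P} (hS : S ≠ ⊥) :
    ∃ x ∈ S, x ≠ 1 ∧ x * x = 1 := by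
  haveI : Fact (Nat.Prime 2) := ⟨Nat.prime_two⟩
  haveI : Nontrivial S := (Subgroup.nontrivial_iff_ne_bot S).2 hS
  obtain ⟨n, hn, hcard⟩ := (IsPGroup.nontrivial_iff_card (h2.to_subgroup S)).1 inferInstance
  obtain ⟨z, hz⟩ := exists_prime_orderOf_dvd_card' 2 (hcard ▸ dvd_pow_self 2 hn.ne')
  refine ⟨z, z.2, fun e => ?_, ?_⟩
  · rw [← Subgroup.orderOf_coe, e, orderOf_one] at hz
    exact absurd hz (by norm_num)
  · have h' := pow_orderOf_eq_one z
    rw [hz, pow_two] at h'
    exact congrArg Subtype.val h'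

omit [Finite P] in
theorem exists_order (h2 : IsPGroup 2 P) {x : P} (hx : x ≠ 1) :
    ∃ i : ℕ, x ^ 2 ^ i ≠ 1 ∧ x ^ 2 ^ (i + 1) = 1 := by
  classical
  have h := h2 x
  obtain ⟨i, hi⟩ : ∃ i, Nat.find h = i + 1 := by
    refine Nat.exists_eq_succ_of_ne_zero fun e => hx ?_
    have := Nat.find_spec h
    rwa [e, pow_zero, pow_one] at this
  exact ⟨i, Nat.find_min h (by omega), hi ▸ Nat.find_spec h⟩

namespace Setting

variable (h : Setting P K)
include h

theorem invol_central {x : P} (hx : x * x = 1) : x ∈ Subgroup.center P := by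
  by_cases hx1 : x = 1
  · rw [hx1]; exact one_mem _
  haveI : Fact (Nat.Prime 2) := ⟨Nat.prime_two⟩
  haveI : Nontrivial P := ⟨⟨x, 1, hx1⟩⟩
  haveI := h.isTwo.center_nontrivial
  obtain ⟨z, hz, hz1, hzz⟩ := exists_invol_mem h.isTwo
    ((Subgroup.nontrivial_iff_ne_bot (Subgroup.center P)).1 inferInstance)
  obtain ⟨k, hk, -⟩ := h.reg z x hz1 hzz hx1 hx
  exact hk ▸ smul_mem_center k hz

theorem mem_invols {x : P} : x ∈ invols P ↔ x * x = 1 := by
  refine ⟨fun hx => ?_, fun hx => Subgroup.subset_closure hx⟩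
  induction hx using Subgroup.closure_induction with
  | mem y hy => exact hy
  | one => exact one_mul 1
  | mul a b _ _ ha hb =>
    rw [(show Commute b a from ((Subgroup.mem_center_iff.1 (h.invol_central hb)) a).symm).mul_mul_mul_comm a b,
      ha, hb, one_mul]
  | inv a _ ha => rw [← mul_inv_rev, ha, inv_one]

theorem invols_le_center : invols P ≤ Subgroup.center P := fun _ hx =>
  h.invol_central (h.mem_invols.1 hx)

theorem smul_mem_invols (k : K) {x : P} (hx : x ∈ invols P) : k • x ∈ invols P := by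
  rw [h.mem_invols] at *
  rw [← smul_mul', hx, smul_one]

theorem eq_one_of_fixed {k : K} {x : P} (hx : x ≠ 1) (hk : k • x = x) : k = 1 := by
  obtain ⟨i, hi, hi'⟩ := exists_order h.isTwo hx
  have hsq : x ^ 2 ^ i * x ^ 2 ^ i = 1 := by rw [← pow_two, ← pow_mul, ← pow_succ, hi']
  obtain ⟨k', -, huniq⟩ := h.reg _ _ hi hsq hi hsq
  rw [huniq k (show k • x ^ 2 ^ i = x ^ 2 ^ i by rw [smul_pow', hk]),
    huniq 1 (show (1 : K) • x ^ 2 ^ i = x ^ 2 ^ i from one_smul K _)]

theorem invols_le {S : Subgroup P} (hinv : ∀ k : K, ∀ x ∈ S, k • x ∈ S) (hS : S ≠ ⊥) : invols P ≤ S := by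
  rw [invols, Subgroup.closure_le]
  intro y hy
  by_cases hy1 : y = 1
  · rw [hy1]; exact S.one_mem
  obtain ⟨x, hx, hx1, hxx⟩ := exists_invol_mem h.isTwo hS
  obtain ⟨k, hk, -⟩ := h.reg x y hx1 hxx hy1 hy
  exact hk ▸ hinv k x hx

theorem finite_auts : Finite K := by
  obtain ⟨x, y, -, hx1, hxx, -, -⟩ := h.two
  refine Finite.of_injective (fun k : K => k • x) fun a b hab => ?_
  have : (b⁻¹ * a) • x = x := by rw [mul_smul, show a • x = b • x from hab, inv_smul_smul]
  exact (inv_mul_eq_one.1 (h.eq_one_of_fixed hx1 this)).symm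

theorem odd_card : Odd (Nat.card K) := by
  classical
  haveI := h.finite_auts
  haveI : Fintype P := Fintype.ofFinite P
  obtain ⟨x, y, -, hx1, hxx, -, -⟩ := h.two
  let f : K → {w : invols P // w ≠ 1} := fun k => ⟨⟨k • x, h.smul_mem_invols k (h.mem_invols.2 hxx)⟩,
    fun e => hx1 (by
      have := congrArg (fun z : invols P => k⁻¹ • (z : P)) e
      simpa using this)⟩
  have hf : Function.Bijective f := by
    refine ⟨fun a b hab => ?_, fun w => ?_⟩
    · have e : a • x = b • x := congrArg (fun z : {w : invols P // w ≠ 1} => ((z : invols P) : P)) hab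
      exact (inv_mul_eq_one.1 (h.eq_one_of_fixed hx1 (k := b⁻¹ * a) (by
        rw [mul_smul, e, inv_smul_smul]))).symm
    · obtain ⟨k, hk, -⟩ := h.reg x w.1 hx1 hxx (fun e => w.2 (Subtype.ext e)) (h.mem_invols.1 w.1.2)
      exact ⟨k, Subtype.ext (Subtype.ext hk)⟩
  rw [Nat.card_eq_of_bijective f hf, Nat.card_eq_fintype_card, Fintype.card_subtype_compl,
    Fintype.card_subtype_eq, ← Nat.card_eq_fintype_card]
  haveI : Fact (Nat.Prime 2) := ⟨Nat.prime_two⟩
  haveI : Nontrivial (invols P) := ⟨⟨⟨x, h.mem_invols.2 hxx⟩, 1, fun e => hx1 (congrArg Subtype.val e)⟩⟩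
  obtain ⟨n, hn, hc⟩ := (IsPGroup.nontrivial_iff_card (h.isTwo.to_subgroup (invols P))).1 inferInstance
  rw [hc]
  exact Nat.Even.sub_odd (Nat.one_le_two_pow) (Nat.even_pow.2 ⟨even_two, hn.ne'⟩) odd_one

/-- an automorphism fixing a coset of an invariant subgroup, other than the subgroup, is trivial -/
theorem eq_one_of_coset {C : Subgroup P} (hC : ∀ k : K, ∀ x ∈ C, k • x ∈ C) {z : P} (hz : z ∉ C)
    {k : K} (hk : z⁻¹ * k • z ∈ C) : k = 1 := by
  classical
  haveI := h.finite_auts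
  haveI : Fintype P := Fintype.ofFinite P
  by_contra hk1
  obtain ⟨r, hr, hrd⟩ := Nat.exists_prime_and_dvd (fun e => hk1 (orderOf_eq_one_iff.1 e))
  haveI := Fact.mk hr
  have hr2 : r ≠ 2 := fun e => by
    have h1 : 2 ∣ Nat.card K := e ▸ hrd.trans (orderOf_dvd_natCard k)
    exact (Nat.not_even_iff_odd.2 h.odd_card) (even_iff_two_dvd.2 h1)
  let T : Subgroup K :=
    { carrier := {j | z⁻¹ * j • z ∈ C}
      one_mem' := by simp [C.one_mem]
      mul_mem' := fun {a b} ha hb => by
        show z⁻¹ * (a * b) • z ∈ C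
        have e : z⁻¹ * (a * b) • z = (z⁻¹ * a • z) * a • (z⁻¹ * b • z) := by
          rw [smul_mul', smul_inv', mul_smul]; group
        rw [e]; exact C.mul_mem ha (hC a _ hb)
      inv_mem' := fun {a} ha => by
        show z⁻¹ * a⁻¹ • z ∈ C
        have e : z⁻¹ * a⁻¹ • z = (a⁻¹ • (z⁻¹ * a • z))⁻¹ := by
          rw [smul_mul', smul_inv', inv_smul_smul]; group
        rw [e]; exact C.inv_mem (hC _ _ ha) }
  set j := k ^ (orderOf k / r) with hj
  have hjo : orderOf j = r := orderOf_pow_orderOf_div (orderOf_pos k).ne' hrd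
  have hjT : z⁻¹ * j • z ∈ C := T.pow_mem hk _
  let X := {x : P // z⁻¹ * x ∈ C}
  let σ : Equiv.Perm X :=
    { toFun := fun x => ⟨j • (x : P), by
        have e : z⁻¹ * j • (x : P) = (z⁻¹ * j • z) * j • (z⁻¹ * (x : P)) := by
          rw [smul_mul', smul_inv']; group
        rw [e]; exact C.mul_mem hjT (hC _ _ x.2)⟩
      invFun := fun x => ⟨j⁻¹ • (x : P), by
        have hjT' : z⁻¹ * j⁻¹ • z ∈ C := T.inv_mem hjT
        have e : z⁻¹ * j⁻¹ • (x : P) = (z⁻¹ * j⁻¹ • z) * j⁻¹ • (z⁻¹ * (x : P)) := by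
          rw [smul_mul' j⁻¹ z⁻¹, smul_inv']; group
        rw [e]; exact C.mul_mem hjT' (hC _ _ x.2)⟩
      left_inv := fun x => Subtype.ext (inv_smul_smul j (x : P))
      right_inv := fun x => Subtype.ext (smul_inv_smul j (x : P)) }
  have hpow : ∀ (n : ℕ) (x : X), (((σ ^ n) x : X) : P) = j ^ n • (x : P) := by
    intro n
    induction n with
    | zero => intro x; simp
    | succ n ih =>
      intro x
      rw [pow_succ' σ, Equiv.Perm.mul_apply, pow_succ' j, mul_smul, ← ih]
      rfl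
  have hcard : Fintype.card X = Nat.card C := by
    rw [← Nat.card_eq_fintype_card]
    exact Nat.card_congr
      { toFun := fun x => ⟨z⁻¹ * x.1, x.2⟩
        invFun := fun c => ⟨z * c, by simp⟩
        left_inv := fun x => Subtype.ext (by simp)
        right_inv := fun c => Subtype.ext (by simp) }
  haveI : Fact (Nat.Prime 2) := ⟨Nat.prime_two⟩
  have hnd : ¬ r ∣ Fintype.card X := by
    rw [hcard]
    obtain ⟨n, hn⟩ := (h.isTwo.to_subgroup C).exists_card_eq
    rw [hn]
    exact fun hd => hr2 ((Nat.prime_dvd_prime_iff_eq hr Nat.prime_two).1 (hr.dvd_of_dvd_pow hd))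
  obtain ⟨x, hx⟩ := Equiv.Perm.exists_fixed_point_of_prime hnd (σ := σ) (n := 1) (by
    rw [pow_one]
    exact Equiv.ext fun x => Subtype.ext (by rw [hpow, ← hjo, pow_orderOf_eq_one, one_smul]; rfl))
  have hx1 : (x : P) ≠ 1 := fun e => hz (by
    have := x.2
    rw [e, mul_one] at this
    simpa using C.inv_mem this)
  have := h.eq_one_of_fixed hx1 (congrArg Subtype.val hx)
  rw [this, orderOf_one] at hjo
  exact hr.ne_one hjo.symm

section Abelian

variable {A : Subgroup P}

/-- the exponent of an invariant abelian subgroup -/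
theorem exists_exponent (hinv : ∀ k : K, ∀ x ∈ A, k • x ∈ A) :
    ∃ M : ℕ, (∀ a ∈ A, a ^ 2 ^ M = 1) ∧ ∀ i, i < M → ∀ w ∈ invols P, ∃ a ∈ A, a ^ 2 ^ i = w := by
  classical
  haveI : Fintype P := Fintype.ofFinite P
  have hex : ∃ M, ∀ a ∈ A, a ^ 2 ^ M = 1 := by
    choose f hf using h.isTwo
    refine ⟨Finset.univ.sup f, fun a _ => ?_⟩
    obtain ⟨d, hd⟩ := Nat.exists_eq_add_of_le (Finset.le_sup (f := f) (Finset.mem_univ a))
    rw [hd, pow_add, pow_mul, hf, one_pow]
  refine ⟨Nat.find hex, Nat.find_spec hex, fun i hi w hw => ?_⟩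
  have := Nat.find_min hex hi
  push Not at this
  obtain ⟨a, ha, hai⟩ := this
  by_cases hw1 : w = 1
  · exact ⟨1, A.one_mem, by rw [one_pow, hw1]⟩
  obtain ⟨j, hj, hj'⟩ := exists_order h.isTwo hai
  obtain ⟨k, hk, -⟩ := h.reg _ w hj (by rw [← pow_two, ← pow_mul, ← pow_succ, hj']) hw1 (h.mem_invols.1 hw)
  refine ⟨k • a ^ 2 ^ j, hinv k _ (A.pow_mem ha _), ?_⟩
  rw [← smul_pow', ← pow_mul, mul_comm, pow_mul]
  exact hk

/-- homocyclicity -/
theorem exists_root (hcomm : ∀ a ∈ A, ∀ b ∈ A, a * b = b * a)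
    {M : ℕ} (hroot : ∀ i, i < M → ∀ w ∈ invols P, ∃ a ∈ A, a ^ 2 ^ i = w) :
    ∀ i ≤ M, ∀ a ∈ A, a ^ 2 ^ i = 1 → ∃ b ∈ A, b ^ 2 ^ (M - i) = a := by
  intro i
  induction i with
  | zero =>
    intro _ a _ ha
    exact ⟨1, A.one_mem, by rw [one_pow]; simpa using ha.symm⟩
  | succ i ih =>
    intro hi a ha hai
    have hw : a ^ 2 ^ i ∈ invols P := h.mem_invols.2 (by rw [← pow_two, ← pow_mul, ← pow_succ, hai])
    obtain ⟨c, hc, hcw⟩ := hroot (M - 1) (by omega) _ hw
    have hd : M - (i + 1) + i = M - 1 := by omega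
    set c' := c ^ 2 ^ (M - (i + 1)) with hc'
    have hc'A : c' ∈ A := A.pow_mem hc _
    have hc'i : c' ^ 2 ^ i = a ^ 2 ^ i := by rw [hc', ← pow_mul, ← pow_add, hd, hcw]
    obtain ⟨b, hb, hbe⟩ := ih (by omega) (a * c'⁻¹) (A.mul_mem ha (A.inv_mem hc'A)) (by
      rw [(show Commute a c'⁻¹ from hcomm a ha _ (A.inv_mem hc'A)).mul_pow, inv_pow, hc'i, mul_inv_cancel])
    refine ⟨b ^ 2 * c, A.mul_mem (A.pow_mem hb 2) hc, ?_⟩
    rw [(show Commute (b ^ 2) c from hcomm _ (A.pow_mem hb 2) c hc).mul_pow, ← pow_mul, ← pow_succ',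
      show M - (i + 1) + 1 = M - i by omega, hbe, ← hc', inv_mul_cancel_right]

end Abelian

/-- coordinates on the involutions -/
theorem exists_coord :
    ∃ (L : Type u) (_ : Field L) (_ : Finite L) (e : L → P) (χ : K → L),
      Function.Injective e ∧ (∀ a b, e (a + b) = e a * e b) ∧ (∀ x, x ∈ invols P ↔ ∃ l, e l = x) ∧
      (∀ k l, k • e l = e (χ k * l)) ∧ (∀ l : L, l ≠ 0 → ∃ k, χ k = l) ∧ (∀ l : L, l + l = 0) ∧
      2 < Nat.card L := by
  classical
  set W := invols P with hW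
  letI : CommGroup W := { (inferInstance : Group W) with
    mul_comm := fun a b => Subtype.ext (Subgroup.mem_center_iff.1 (h.invols_le_center b.2) a) }
  letI : DistribMulAction K (Additive W) :=
    { smul := fun k a => Additive.ofMul ⟨k • ((Additive.toMul a : W) : P), h.smul_mem_invols k (Additive.toMul a : W).2⟩
      one_smul := fun a => Additive.toMul.injective (Subtype.ext (one_smul K _))
      mul_smul := fun x y a => Additive.toMul.injective (Subtype.ext (mul_smul x y _))
      smul_zero := fun x => Additive.toMul.injective (Subtype.ext (smul_one x))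
      smul_add := fun x a b => Additive.toMul.injective (Subtype.ext (smul_mul' x _ _)) }
  obtain ⟨x, y, hxy, hx1, hxx, hy1, hyy⟩ := h.two
  let x' : Additive W := Additive.ofMul ⟨x, h.mem_invols.2 hxx⟩
  let y' : Additive W := Additive.ofMul ⟨y, h.mem_invols.2 hyy⟩
  have hx' : x' ≠ 0 := fun e => hx1 (congrArg (fun z => ((Additive.toMul z : W) : P)) e)
  have hy' : y' ≠ 0 := fun e => hy1 (congrArg (fun z => ((Additive.toMul z : W) : P)) e)
  have hxy' : x' ≠ y' := fun e => hxy (congrArg (fun z => ((Additive.toMul z : W) : P)) e)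
  haveI : Nontrivial (Additive W) := ⟨⟨x', 0, hx'⟩⟩
  obtain ⟨L, hF, hfin, e, χ, he, hχ, h2⟩ := exists_lineField (E := Additive W) (K := K)
    (fun a => Additive.toMul.injective (Subtype.ext (h.mem_invols.1 (Additive.toMul a : W).2)))
    (fun a b ha hb => by
      obtain ⟨k, hk, huniq⟩ := h.reg ((Additive.toMul a : W) : P) ((Additive.toMul b : W) : P)
        (fun e => ha (Additive.toMul.injective (Subtype.ext e))) (h.mem_invols.1 (Additive.toMul a : W).2)
        (fun e => hb (Additive.toMul.injective (Subtype.ext e))) (h.mem_invols.1 (Additive.toMul b : W).2)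
      exact ⟨k, Additive.toMul.injective (Subtype.ext hk), fun j hj =>
        huniq j (congrArg (fun z => ((Additive.toMul z : W) : P)) hj)⟩)
  refine ⟨L, hF, hfin, fun l => ((Additive.toMul (e l) : W) : P), χ,
    fun a b hab => e.injective (Additive.toMul.injective (Subtype.ext hab)),
    fun a b => by simp only [map_add]; rfl,
    fun z => ⟨fun hz => ⟨e.symm (Additive.ofMul ⟨z, hz⟩),
        congrArg (fun w => ((Additive.toMul w : W) : P)) (e.apply_symm_apply _)⟩,
      fun ⟨l, hl⟩ => hl ▸ (Additive.toMul (e l) : W).2⟩,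
    fun k l => congrArg (fun z => ((Additive.toMul z : W) : P)) (he k l), hχ, h2, ?_⟩
  rw [Nat.card_congr e.toEquiv]
  haveI : Fintype W := Fintype.ofFinite W
  rw [Nat.card_eq_fintype_card]
  exact lt_of_lt_of_le (by rw [Finset.card_eq_three.2 ⟨_, _, _, hx'.symm, hy'.symm, hxy', rfl⟩]; norm_num)
    (Finset.card_le_univ ({0, x', y'} : Finset (Additive W)))

end Setting

end CfsgLib.SuzukiTwo
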